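import Cfsg.Agent.Lib.Classical.UnitarySimple
import Cfsg.Agent.Lib.Transvec.HermStab

/-!
Two generation of unitary groups: Eichler transformations, hyperbolic systems and a generation criterion.
-/

set_option autoImplicit false

namespace Cfsg.Agent.TwoGenUnit

open scoped Matrix
open Matrix Cfsg.Agent.Transvec Cfsg.Agent.Transvec.Herm Cfsg.Agent.UnitarySimple

variable {ι : Type} [Fintype ι] [DecidableEq ι] {F : Type*} [Field F]
variable {σ : F ≃+* F} {f : (ι → F) → (ι → F) → F}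

theorem sug_pres {g : GL ι F} (hg : g ∈ sug f) (x y : ι → F) : f (mv g x) (mv g y) = f x y := hg.1 x y

theorem conj_mem' {G : Type*} [Group G] {E : Subgroup G} {g s : G} (hg : g ∈ E) (hs : s ∈ E) :
    g * s * g⁻¹ ∈ E := mul_mem (mul_mem hg hs) (inv_mem hg)

variable (hf : Geo.IsUnitaryForm σ f)

/-- admissible parameters of an Eichler transformation -/
def Ok (σ : F ≃+* F) (f : (ι → F) → (ι → F) → F) (u y : ι → F) (l : F) : Prop :=
  f u u = 0 ∧ f y u = 0 ∧ l + σ l + f y y = 0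

/-- a chosen Eichler transformation -/
noncomputable def eic (u y : ι → F) (l : F) : GL ι F := by
  classical
  exact if h : Ok σ f u y l then (exists_eichler hf h.1 h.2.1 h.2.2).choose else 1

include hf

theorem eic_mem {u y : ι → F} {l : F} (h : Ok σ f u y l) : eic hf u y l ∈ sug f := by
  unfold eic
  rw [dif_pos h]
  exact (exists_eichler hf h.1 h.2.1 h.2.2).choose_spec.1

theorem mv_eic {u y : ι → F} {l : F} (h : Ok σ f u y l) (z : ι → F) :
    mv (eic hf u y l) z = z + f z u • y + (l * f z u - f z y) • u := by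
  unfold eic
  rw [dif_pos h]
  exact (exists_eichler hf h.1 h.2.1 h.2.2).choose_spec.2 z

theorem eic_fix {u y : ι → F} {l : F} (h : Ok σ f u y l) {z : ι → F} (h1 : f z u = 0) (h2 : f z y = 0) :
    mv (eic hf u y l) z = z := by
  rw [mv_eic hf h, h1, h2]; simp

theorem ok_iso {u y : ι → F} (hu : f u u = 0) (hy : f y y = 0) (hyu : f y u = 0) : Ok σ f u y 0 :=
  ⟨hu, hyu, by rw [map_zero, hy]; ring⟩

theorem ok_anti {u : ι → F} (hu : f u u = 0) {c : F} (hc : σ c = -c) : Ok σ f u 0 c :=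
  ⟨hu, zero_left hf u, by rw [hc, zero_left hf]; ring⟩

theorem ok_add {u y y' : ι → F} {l l' : F} (h : Ok σ f u y l) (h' : Ok σ f u y' l') :
    Ok σ f u (y + y') (l + l' - f y' y) :=
  ⟨h.1, by rw [hf.add_left, h.2.1, h'.2.1, add_zero], by
    rw [map_sub, map_add, hf.add_left, add_right hf, add_right hf, ← hf.herm]
    linear_combination h.2.2 + h'.2.2⟩

theorem eic_mul {u y y' : ι → F} {l l' : F} (h : Ok σ f u y l) (h' : Ok σ f u y' l') :
    eic hf u y l * eic hf u y' l' = eic hf u (y + y') (l + l' - f y' y) := by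
  refine ext_mv fun z => ?_
  rw [mv_mul, mv_eic hf h', mv_eic hf h, mv_eic hf (ok_add hf h h'), add_right hf]
  have h2 : f u y = 0 := (f_eq_zero_comm hf).1 h.2.1
  simp only [hf.add_left, hf.smul_left, h.1, h2, h'.2.1, mul_zero, add_zero]
  module

theorem eic_zero {u : ι → F} (hu : f u u = 0) : eic hf u 0 0 = 1 := by
  refine ext_mv fun z => ?_
  rw [mv_eic hf (ok_anti hf hu (by simp)), mv_one, zero_right hf]
  simp

theorem htv_eq_eic {u : ι → F} (hu : f u u = 0) {c : F} (hc : σ c = -c) :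
    htv hf u hu c = eic hf u 0 c := by
  refine ext_mv fun z => ?_
  rw [mv_htv, mv_eic hf (ok_anti hf hu hc), zero_right hf]
  simp

theorem eic_inv {u y : ι → F} {l : F} (h : Ok σ f u y l) :
    eic hf u (-y) (σ l) = (eic hf u y l)⁻¹ := by
  have hm : Ok σ f u (-y) (σ l) := ⟨h.1, by rw [neg_left hf, h.2.1, neg_zero], by
    rw [hf.involutive, neg_left hf, neg_right hf, neg_neg]; linear_combination h.2.2⟩
  rw [eq_inv_iff_mul_eq_one, eic_mul hf hm h, neg_add_cancel,
    show σ l + l - f y (-y) = 0 by rw [neg_right hf]; linear_combination h.2.2, eic_zero hf h.1]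

theorem ok_map {g : GL ι F} (hg : g ∈ sug f) {u y : ι → F} {l : F} (h : Ok σ f u y l) :
    Ok σ f (mv g u) (mv g y) l := by
  unfold Ok
  rw [sug_pres hg, sug_pres hg, sug_pres hg]
  exact h

theorem eic_conj {g : GL ι F} (hg : g ∈ sug f) {u y : ι → F} {l : F} (h : Ok σ f u y l) :
    g * eic hf u y l * g⁻¹ = eic hf (mv g u) (mv g y) l := by
  refine ext_mv fun x => ?_
  obtain ⟨z, rfl⟩ : ∃ z, x = mv g z := ⟨mv g⁻¹ x, (mv_mv_inv g x).symm⟩
  rw [mv_mul, mv_mul, mv_inv_mv, mv_eic hf h, mv_eic hf (ok_map hf hg h), sug_pres hg, sug_pres hg, mv_add,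
    mv_add, mv_smul, mv_smul]

theorem conj_eic_mem {M : Subgroup (GL ι F)} (hMS : M ≤ sug f) {g : GL ι F} (hg : g ∈ M) {u y : ι → F}
    {l : F} (h : Ok σ f u y l) (hm : eic hf u y l ∈ M) : eic hf (mv g u) (mv g y) l ∈ M :=
  eic_conj hf (hMS hg) h ▸ conj_mem' hg hm

theorem ok_scale {u y : ι → F} {l a : F} (h : Ok σ f u y l) :
    Ok σ f u (σ a • y) (a * σ a * l) :=
  ⟨h.1, by rw [hf.smul_left, h.2.1, mul_zero], by
    rw [map_mul, map_mul, hf.involutive, hf.smul_left, smul_right hf, hf.involutive]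
    linear_combination (a * σ a) * h.2.2⟩

theorem ok_smul_left {u y : ι → F} {l : F} (a : F) (h : Ok σ f u y l) : Ok σ f (a • u) y l :=
  ⟨by rw [hf.smul_left, smul_right hf, h.1, mul_zero, mul_zero], by rw [smul_right hf, h.2.1, mul_zero], h.2.2⟩

theorem eic_scale {u y : ι → F} {l : F} (a : F) (h : Ok σ f u y l) :
    eic hf (a • u) y l = eic hf u (σ a • y) (a * σ a * l) := by
  refine ext_mv fun z => ?_
  rw [mv_eic hf (ok_smul_left hf a h), mv_eic hf (ok_scale hf h), smul_right hf, smul_right hf, hf.involutive]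
  module

theorem eic_swap {u y : ι → F} (hu : f u u = 0) (hy : f y y = 0) (hyu : f y u = 0) :
    eic hf u y 0 = eic hf y (-u) 0 := by
  refine ext_mv fun z => ?_
  rw [mv_eic hf (ok_iso hf hu hy hyu), mv_eic hf (ok_iso hf hy (by rw [neg_left hf, neg_right hf, neg_neg, hu])
    (by rw [neg_left hf, (f_eq_zero_comm hf).1 hyu, neg_zero])), neg_right hf]
  module

theorem eic_commutator {u y y' : ι → F} {l l' : F} (h : Ok σ f u y l) (h' : Ok σ f u y' l') :
    eic hf u y l * eic hf u y' l' * (eic hf u y l)⁻¹ * (eic hf u y' l')⁻¹ =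
      eic hf u 0 (f y y' - f y' y) := by
  have hc : σ (f y y' - f y' y) = -(f y y' - f y' y) := by rw [map_sub, ← hf.herm, ← hf.herm]; ring
  have key : eic hf u 0 (f y y' - f y' y) * (eic hf u y' l' * eic hf u y l) = eic hf u y l * eic hf u y' l' := by
    rw [eic_mul hf h h', eic_mul hf h' h, eic_mul hf (ok_anti hf h.1 hc) (ok_add hf h' h), zero_add,
      zero_right hf, add_comm y' y]
    congr 1
    ring
  rw [← key]
  group

/-- every admissible Eichler transformation at `u` lies in `M` -/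
def FullU (M : Subgroup (GL ι F)) (u : ι → F) : Prop := ∀ y l, Ok σ f u y l → eic hf u y l ∈ M

theorem fullU_of_mv {M : Subgroup (GL ι F)} (hMS : M ≤ sug f) {g : GL ι F} (hg : g ∈ M) {u u' : ι → F} {s : F}
    (hs : s ≠ 0) (he : mv g u = s • u') (h : FullU hf M u) : FullU hf M u' := by
  intro y' l' h'
  have hσs : σ s ≠ 0 := (map_ne_zero_iff σ σ.injective).2 hs
  have hok : Ok σ f (mv g⁻¹ (s • u')) (mv g⁻¹ ((σ s)⁻¹ • y')) (l' / (s * σ s)) := by
    refine ok_map hf (inv_mem (hMS hg)) ⟨?_, ?_, ?_⟩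
    · rw [hf.smul_left, smul_right hf, h'.1, mul_zero, mul_zero]
    · rw [hf.smul_left, smul_right hf, h'.2.1, mul_zero, mul_zero]
    · rw [hf.smul_left, smul_right hf, map_inv₀, hf.involutive, map_div₀, map_mul, hf.involutive]
      field_simp
      linear_combination h'.2.2
  rw [← he, mv_inv_mv] at hok
  have hm := conj_eic_mem hf hMS hg hok (h _ _ hok)
  have hok' : Ok σ f u' ((σ s)⁻¹ • y') (l' / (s * σ s)) := by
    refine ⟨h'.1, by rw [hf.smul_left, h'.2.1, mul_zero], ?_⟩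
    rw [hf.smul_left, smul_right hf, map_inv₀, hf.involutive, map_div₀, map_mul, hf.involutive]
    field_simp
    linear_combination h'.2.2
  rwa [he, mv_mv_inv, eic_scale hf s hok', smul_smul, mul_inv_cancel₀ hσs, one_smul,
    mul_div_cancel₀ _ (mul_ne_zero hs hσs)] at hm

omit hf

/-- `m` mutually orthogonal hyperbolic pairs -/
structure Sys (f : (ι → F) → (ι → F) → F) (m : ℕ) (e d : ℕ → ι → F) : Prop where
  ee : ∀ i < m, ∀ j < m, f (e i) (e j) = 0
  dd : ∀ i < m, ∀ j < m, f (d i) (d j) = 0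
  ed : ∀ i < m, ∀ j < m, f (e i) (d j) = if i = j then 1 else 0
  de : ∀ i < m, ∀ j < m, f (d i) (e j) = if i = j then 1 else 0

/-- orthogonal to all the pairs -/
def InW (f : (ι → F) → (ι → F) → F) (m : ℕ) (e d : ℕ → ι → F) (w : ι → F) : Prop :=
  ∀ i < m, f w (e i) = 0 ∧ f w (d i) = 0

namespace Sys

variable {m : ℕ} {e d : ℕ → ι → F} (H : Sys f m e d)

include H

theorem symm : Sys f m d e := ⟨H.dd, H.ee, H.de, H.ed⟩

theorem ed1 {i : ℕ} (hi : i < m) : f (e i) (d i) = 1 := by rw [H.ed i hi i hi, if_pos rfl]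

theorem de1 {i : ℕ} (hi : i < m) : f (d i) (e i) = 1 := by rw [H.de i hi i hi, if_pos rfl]

theorem ed0 {i j : ℕ} (hi : i < m) (hj : j < m) (h : i ≠ j) : f (e i) (d j) = 0 := by
  rw [H.ed i hi j hj, if_neg h]

theorem de0 {i j : ℕ} (hi : i < m) (hj : j < m) (h : i ≠ j) : f (d i) (e j) = 0 := by
  rw [H.de i hi j hj, if_neg h]

include hf

theorem eW {w : ι → F} (hw : InW f m e d w) {i : ℕ} (hi : i < m) : f (e i) w = 0 :=
  (f_eq_zero_comm hf).1 (hw i hi).1

theorem dW {w : ι → F} (hw : InW f m e d w) {i : ℕ} (hi : i < m) : f (d i) w = 0 :=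
  (f_eq_zero_comm hf).1 (hw i hi).2

theorem decomp (x : ι → F) : InW f m e d
    (x - ∑ i ∈ Finset.range m, (f x (d i) • e i + f x (e i) • d i)) := by
  have hh : ∀ u v, formH hf v u = f u v := fun u v => rfl
  intro i hi
  constructor
  · rw [sub_left hf, sub_eq_zero, ← hh (∑ k ∈ _, _), map_sum, Finset.sum_eq_single i]
    · rw [hh, hf.add_left, hf.smul_left, hf.smul_left, H.de1 hi, H.ee i hi i hi]; ring
    · intro k hk hne
      rw [hh, hf.add_left, hf.smul_left, hf.smul_left, H.de0 (Finset.mem_range.1 hk) hi hne,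
        H.ee k (Finset.mem_range.1 hk) i hi]
      ring
    · exact fun h => absurd (Finset.mem_range.2 hi) h
  · rw [sub_left hf, sub_eq_zero, ← hh (∑ k ∈ _, _), map_sum, Finset.sum_eq_single i]
    · rw [hh, hf.add_left, hf.smul_left, hf.smul_left, H.ed1 hi, H.dd i hi i hi]; ring
    · intro k hk hne
      rw [hh, hf.add_left, hf.smul_left, hf.smul_left, H.ed0 (Finset.mem_range.1 hk) hi hne,
        H.dd k (Finset.mem_range.1 hk) i hi]
      ring
    · exact fun h => absurd (Finset.mem_range.2 hi) h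

theorem ext {g h : GL ι F} (he : ∀ i < m, mv g (e i) = mv h (e i)) (hd : ∀ i < m, mv g (d i) = mv h (d i))
    (hw : ∀ w, InW f m e d w → mv g w = mv h w) : g = h := by
  refine ext_mv fun x => ?_
  obtain ⟨s, hs⟩ : ∃ s, ∑ i ∈ Finset.range m, (f x (d i) • e i + f x (e i) • d i) = s := ⟨_, rfl⟩
  have h1 := hw _ (H.decomp hf x)
  rw [hs, mv_sub, mv_sub] at h1
  have h2 : mv g s = mv h s := by
    rw [← hs, mv_sum, mv_sum]
    refine Finset.sum_congr rfl fun i hi => ?_
    rw [mv_add, mv_add, mv_smul, mv_smul, mv_smul, mv_smul, he i (Finset.mem_range.1 hi),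
      hd i (Finset.mem_range.1 hi)]
  rw [h2] at h1
  exact sub_left_inj.1 h1

/-- the pieces along the frame give the whole root group at `e 0` -/
theorem full_of_pieces {M : Subgroup (GL ι F)} (h0 : 0 < m)
    (hc : ∀ c, σ c = -c → eic hf (e 0) 0 c ∈ M)
    (hE : ∀ i < m, i ≠ 0 → ∀ a : F, ∃ l, Ok σ f (e 0) (a • e i) l ∧ eic hf (e 0) (a • e i) l ∈ M)
    (hD : ∀ i < m, i ≠ 0 → ∀ a : F, ∃ l, Ok σ f (e 0) (a • d i) l ∧ eic hf (e 0) (a • d i) l ∈ M)
    (hW : ∀ w, InW f m e d w → ∃ l, Ok σ f (e 0) w l ∧ eic hf (e 0) w l ∈ M) :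
    FullU hf M (e 0) := by
  have hu := H.ee 0 h0 0 h0
  let P : (ι → F) → Prop := fun y => ∃ l, Ok σ f (e 0) y l ∧ eic hf (e 0) y l ∈ M
  have hadd : ∀ a b, P a → P b → P (a + b) := fun a b ⟨l, hl, hl'⟩ ⟨k, hk, hk'⟩ =>
    ⟨_, ok_add hf hl hk, eic_mul hf hl hk ▸ mul_mem hl' hk'⟩
  have hzero : P 0 := ⟨0, ok_anti hf hu (by simp), by rw [eic_zero hf hu]; exact one_mem _⟩
  intro y l h
  obtain ⟨s, hs⟩ : ∃ s, ∑ i ∈ Finset.range m, (f y (d i) • e i + f y (e i) • d i) = s := ⟨_, rfl⟩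
  have h1 : P s := by
    rw [← hs]
    refine Finset.sum_induction _ P hadd hzero fun i hi => ?_
    have hi' := Finset.mem_range.1 hi
    rcases eq_or_ne i 0 with rfl | hne
    · rw [h.2.1, zero_smul, add_zero]
      have hok : Ok σ f (e 0) (f y (d 0) • e 0) 0 :=
        ok_iso hf hu (by rw [hf.smul_left, smul_right hf, hu, mul_zero, mul_zero])
          (by rw [hf.smul_left, hu, mul_zero])
      have ha : σ (f y (d 0) - σ (f y (d 0))) = -(f y (d 0) - σ (f y (d 0))) := by
        rw [map_sub, hf.involutive, neg_sub]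
      refine ⟨0, hok, ?_⟩
      convert hc _ ha using 1
      refine ext_mv fun z => ?_
      rw [mv_eic hf hok, mv_eic hf (ok_anti hf hu ha), smul_right hf, zero_right hf]
      module
    · exact hadd _ _ (hE i hi' hne _) (hD i hi' hne _)
  have h2 := hadd _ _ h1 (hW _ (hs ▸ H.decomp hf y))
  rw [add_sub_cancel] at h2
  obtain ⟨l₀, hl₀, hm⟩ := h2
  have hd' : σ (l - l₀) = -(l - l₀) := by
    rw [map_sub]; linear_combination h.2.2 - hl₀.2.2
  have := mul_mem hm (hc _ hd')
  rwa [eic_mul hf hl₀ (ok_anti hf hu hd'), add_zero, zero_left hf, sub_zero, add_sub_cancel] at this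

/-- **Generation criterion** -/
theorem le_of_full [Finite F] (h0 : 0 < m) (hn : 3 ≤ Fintype.card ι)
    (h32 : Fintype.card ι = 3 → 3 ≤ Nat.card (fixedField σ)) {M : Subgroup (GL ι F)} (hMS : M ≤ sug f)
    (hE : FullU hf M (e 0)) (hD : FullU hf M (d 0)) : sug f ≤ M := by
  refine UnitaryGen.su_le_all hf hn h32 fun v hv c hc => ?_
  rcases eq_or_ne v 0 with rfl | hv0
  · rw [show htv hf 0 hv c = 1 from ext_mv fun x => by simp [mv_htv, mv_one]]
    exact one_mem _
  have he := H.ee 0 h0 0 h0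
  have hd := H.dd 0 h0 0 h0
  -- make the first coordinate non-zero
  obtain ⟨g, hg, ha⟩ : ∃ g ∈ M, f (mv g v) (d 0) ≠ 0 := by
    by_cases ha : f v (d 0) = 0
    swap
    · exact ⟨1, one_mem _, by rwa [mv_one]⟩
    by_cases hb : f v (e 0) = 0
    · obtain ⟨y₀, hy₀⟩ : ∃ y₀, f v y₀ ≠ 0 := (hf.nondegenerate v hv0).2
      obtain ⟨y, hy⟩ : ∃ y, y₀ - f y₀ (d 0) • e 0 - f y₀ (e 0) • d 0 = y := ⟨_, rfl⟩
      have hye : f y (e 0) = 0 := by
        rw [← hy, sub_left hf, sub_left hf, hf.smul_left, hf.smul_left, he, H.de1 h0]; ring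
      have hyd : f y (d 0) = 0 := by
        rw [← hy, sub_left hf, sub_left hf, hf.smul_left, hf.smul_left, hd, H.ed1 h0]; ring
      have hvy : f v y = f v y₀ := by
        rw [← hy, sub_right hf, sub_right hf, smul_right hf, smul_right hf, ha, hb]; ring
      obtain ⟨l, hl⟩ := exists_trace hf.ne_refl hf.involutive (-f y y) (by rw [map_neg, self_fixed hf])
      have hok : Ok σ f (e 0) y l := ⟨he, hye, by linear_combination hl⟩
      refine ⟨_, hE _ _ hok, ?_⟩
      rw [mv_eic hf hok, hb, hf.add_left, hf.add_left, hf.smul_left, hf.smul_left, ha, H.ed1 h0, hvy]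
      simpa using hy₀
    · obtain ⟨t, ht0, ht⟩ := exists_anti hf.ne_refl hf.involutive
      refine ⟨_, hE _ _ (ok_anti hf he ht), ?_⟩
      rw [mv_eic hf (ok_anti hf he ht), zero_right hf, hf.add_left, hf.add_left, hf.smul_left, hf.smul_left, ha,
        H.ed1 h0, zero_left hf]
      simpa using mul_ne_zero ht0 hb
  -- then push it onto the first line
  obtain ⟨x, hx⟩ : ∃ x, mv g v = x := ⟨_, rfl⟩
  have hxx : f x x = 0 := by rw [← hx, sug_pres (hMS hg), hv]
  rw [hx] at ha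
  obtain ⟨a, hadef⟩ : ∃ a, f x (d 0) = a := ⟨_, rfl⟩
  rw [hadef] at ha
  have hσa : σ a ≠ 0 := (map_ne_zero_iff σ σ.injective).2 ha
  obtain ⟨b, hbdef⟩ : ∃ b, f x (e 0) = b := ⟨_, rfl⟩
  obtain ⟨r, hr⟩ : ∃ r, x - a • e 0 - b • d 0 = r := ⟨_, rfl⟩
  have hre : f r (e 0) = 0 := by
    rw [← hr, sub_left hf, sub_left hf, hf.smul_left, hf.smul_left, hbdef, he, H.de1 h0]; ring
  have hrd : f r (d 0) = 0 := by
    rw [← hr, sub_left hf, sub_left hf, hf.smul_left, hf.smul_left, hadef, hd, H.ed1 h0]; ring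
  have hxr : x = a • e 0 + b • d 0 + r := by rw [← hr]; abel
  have her := (f_eq_zero_comm hf).1 hre
  have hdr := (f_eq_zero_comm hf).1 hrd
  have hxx' : a * σ b + b * σ a + f r r = 0 := by
    rw [hxr] at hxx
    simp only [hf.add_left, add_right hf, hf.smul_left, smul_right hf, he, hd, H.ed1 h0, H.de1 h0, hre, hrd,
      her, hdr, mul_zero, mul_one, add_zero, zero_add] at hxx
    linear_combination hxx
  obtain ⟨l, hldef⟩ : ∃ l, -f r r / (a * σ a) - b / a = l := ⟨_, rfl⟩
  have hok : Ok σ f (d 0) ((-a⁻¹) • r) l := by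
    refine ⟨hd, by rw [hf.smul_left, hrd, mul_zero], ?_⟩
    rw [← hldef, map_sub, map_div₀, map_div₀, map_neg, map_mul, hf.involutive, self_fixed hf, hf.smul_left,
      smul_right hf, map_neg, map_inv₀]
    field_simp
    linear_combination -hxx'
  have happ : mv (eic hf (d 0) ((-a⁻¹) • r) l) x = a • e 0 := by
    have hxy : f x ((-a⁻¹) • r) = -f r r / σ a := by
      rw [hxr, smul_right hf, map_neg, map_inv₀]
      simp only [hf.add_left, hf.smul_left, her, hdr, mul_zero, zero_add]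
      field_simp
    rw [mv_eic hf hok, hadef, hxy, ← hldef, hxr, smul_smul, mul_neg, mul_inv_cancel₀ ha,
      show (-f r r / (a * σ a) - b / a) * a - -f r r / σ a = -b by field_simp; ring]
    module
  have hgM : eic hf (d 0) ((-a⁻¹) • r) l * g ∈ M := mul_mem (hD _ _ hok) hg
  have hgS := hMS hgM
  have hgv : mv (eic hf (d 0) ((-a⁻¹) • r) l * g) v = a • e 0 := by rw [mv_mul, hx, happ]
  have hconj := htv_conj hf (sug_pres hgS) v hv c
  have hmem : eic hf (d 0) ((-a⁻¹) • r) l * g * htv hf v hv c * (eic hf (d 0) ((-a⁻¹) • r) l * g)⁻¹ ∈ M := by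
    rw [hconj, UnitarySimple.htv_congr hf hgv _ (ok_smul_left hf a (ok_anti hf he hc)).1,
      htv_eq_eic hf _ hc, eic_scale hf a (ok_anti hf he hc), smul_zero]
    exact hE _ _ (ok_anti hf he (by rw [map_mul, map_mul, hf.involutive, hc]; ring))
  have := conj_mem' (inv_mem hgM) hmem
  simpa [mul_assoc] using this

end Sys

end Cfsg.Agent.TwoGenUnit
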