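import Cfsg.Agent.Lib.Classical.TwoGenUnit.Monomial

/-!
Two explicit generators of the special unitary group.
-/

set_option autoImplicit false

namespace Cfsg.Agent.TwoGenUnit

open scoped Matrix
open Matrix Cfsg.Agent.Transvec Cfsg.Agent.Transvec.Herm Cfsg.Agent.UnitarySimple

variable {ι : Type} [Fintype ι] [DecidableEq ι] {F : Type*} [Field F]
variable {σ : F ≃+* F} {f : (ι → F) → (ι → F) → F}

/-- two commuting elements isolate a root element -/
theorem extract_group {G : Type*} [Group G] {M : Subgroup G} {h w X : G} (hh : h ∈ M) (hb : w * X ∈ M)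
    (hc : h * (w⁻¹ * h * w) = w⁻¹ * h * w * h) {Y : G}
    (hY : Y = X⁻¹ * (w⁻¹ * h * w * X * (w⁻¹ * h * w)⁻¹)) : h * Y * h⁻¹ * Y⁻¹ ∈ M := by
  obtain ⟨h', hh'⟩ : ∃ h', w⁻¹ * h * w = h' := ⟨_, rfl⟩
  rw [hh'] at hc hY
  have hg : Y * h' ∈ M := by
    have h2 := mul_mem (mul_mem (inv_mem hb) hh) hb
    have e : (w * X)⁻¹ * h * (w * X) = Y * h' := by rw [hY, ← hh']; group
    rwa [e] at h2
  have := mul_mem (conj_mem' hh hg) (inv_mem hg)
  have e : h * (Y * h') * h⁻¹ * (Y * h')⁻¹ = h * Y * h⁻¹ * Y⁻¹ := by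
    calc h * (Y * h') * h⁻¹ * (Y * h')⁻¹ = h * Y * (h' * h⁻¹) * h'⁻¹ * Y⁻¹ := by group
      _ = h * Y * (h⁻¹ * h') * h'⁻¹ * Y⁻¹ := by
          rw [show h' * h⁻¹ = h⁻¹ * h' from by rw [mul_inv_eq_iff_eq_mul, mul_assoc, ← hc, inv_mul_cancel_left]]
      _ = h * Y * h⁻¹ * Y⁻¹ := by group
  rwa [e] at this

theorem ord_bound {θ : F} {N q j : ℕ} (hθ : ∀ k : ℕ, 0 < k → θ ^ k = 1 → N ≤ k) (hj : 0 < j)
    (hN : j * (q - 1) < N) {μ : F} (hμ : ∀ k, μ ^ k = 1 → θ ^ (j * k) = 1) :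
    ∀ k, 0 < k → μ ^ k = 1 → q ≤ k := by
  intro k hk h
  have h1 := hθ (j * k) (Nat.mul_pos hj hk) (hμ k h)
  by_contra hlt
  have := Nat.mul_le_mul_left j (show k ≤ q - 1 by omega)
  omega

variable (hf : Geo.IsUnitaryForm σ f)
include hf

theorem eic_eigen {g : GL ι F} (hg : g ∈ sug f) {u y : ι → F} {l a b : F} (h : Ok σ f u y l)
    (h1 : mv g u = a • u) (h2 : mv g y = b • y) :
    Ok σ f u ((σ a * b) • y) (a * σ a * l) ∧
      g * eic hf u y l * g⁻¹ = eic hf u ((σ a * b) • y) (a * σ a * l) := by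
  rcases eq_or_ne a 0 with rfl | ha
  · rw [zero_smul] at h1
    have hu : u = 0 := mv_inj g (h1.trans (mv_zero g).symm)
    subst hu
    refine ⟨by simpa using ok_anti hf (zero_left hf _) (c := (0 : F)) (by simp), ?_⟩
    simp only [map_zero, zero_mul, zero_smul, mul_zero]
    rw [eic_zero hf (zero_left hf _), eic_conj hf hg h, mv_zero]
    refine ext_mv fun z => ?_
    rw [mv_eic hf (by rw [← mv_zero g]; exact ok_map hf hg h), mv_one, zero_right hf]
    simp
  have hok : Ok σ f u (b • y) l := by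
    obtain ⟨g1, g2, g3⟩ := ok_map hf hg h
    rw [h1, h2] at g2
    rw [h2] at g3
    refine ⟨h.1, ?_, g3⟩
    rw [smul_right hf] at g2
    exact (mul_eq_zero.1 g2).resolve_left ((map_ne_zero_iff σ σ.injective).2 ha)
  refine ⟨smul_smul (σ a) b y ▸ ok_scale hf hok, ?_⟩
  rw [eic_conj hf hg h, h1, h2, eic_scale hf a hok, smul_smul]

namespace Sys

variable {m : ℕ} {e d : ℕ → ι → F} (H : Sys f m e d)
include H

variable [Finite F]

/-- **two generators**, odd dimension -/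
theorem odd_gen (hm : 0 < m) (hn : 3 ≤ Fintype.card ι)
    (h32 : Fintype.card ι = 3 → 3 ≤ Nat.card (fixedField σ)) {q : ℕ} (hq : 2 ≤ q) (hF : Nat.card F = q ^ 2)
    {v : ι → F} (hv : InW f m e d v) (hvv : f v v = 1) (hspan : ∀ x, InW f m e d x → x = f x v • v)
    {w h : GL ι F} (hw : w ∈ sug f) {s s' : F} (hs : s ≠ 0)
    (hlt : ∀ i, i + 1 < m → mv w (e i) = e (i + 1) ∧ mv w (d i) = d (i + 1))
    (hwe : mv w (e (m - 1)) = s • d 0) (hwd : mv w (d (m - 1)) = s' • e 0)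
    (hwW : ∀ x, InW f m e d x → mv w x = x)
    (hh : h ∈ sug f) (hdiag : IsDiag f m e d h) {a a' ρ : F} (ha : a ≠ 0) (hρ : ρ ≠ 0)
    (h1 : mv h (e 0) = a • e 0) (h2 : mv h v = ρ • v) (h1' : mv (w⁻¹ * h * w) (e 0) = a' • e 0)
    (hμ : ∀ k, 0 < k → (σ a * ρ) ^ k = 1 → q ≤ k) (hμ' : σ a' * ρ ≠ 1) :
    ∃ g₁ ∈ sug f, ∃ g₂ ∈ sug f, sug f ≤ Subgroup.closure {g₁, g₂} := by
  have he := H.ee 0 hm 0 hm
  obtain ⟨l₀, hl₀⟩ := exists_trace hf.ne_refl hf.involutive (-1 : F) (by rw [map_neg, map_one])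
  have hX : Ok σ f (e 0) v l₀ := ⟨he, (hv 0 hm).1, by rw [hvv]; linear_combination hl₀⟩
  refine ⟨h, hh, w * eic hf (e 0) v l₀, mul_mem hw (eic_mem hf hX), ?_⟩
  obtain ⟨M, hM⟩ : ∃ M, Subgroup.closure ({h, w * eic hf (e 0) v l₀} : Set (GL ι F)) = M := ⟨_, rfl⟩
  rw [hM]
  have hMS : M ≤ sug f := by
    rw [← hM, Subgroup.closure_le]
    exact Set.insert_subset_iff.2 ⟨hh, Set.singleton_subset_iff.2 (mul_mem hw (eic_mem hf hX))⟩
  have hhM : h ∈ M := hM ▸ Subgroup.subset_closure (by simp)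
  have hbM : w * eic hf (e 0) v l₀ ∈ M := hM ▸ Subgroup.subset_closure (by simp)
  have hwv := hwW v hv
  have h2' : mv (w⁻¹ * h * w) v = ρ • v := conj_apply_of (by rw [hwv, h2])
  have hokv : ∀ c : F, ∃ l, Ok σ f (e 0) (c • v) l := fun c => by
    obtain ⟨l, hl⟩ := exists_trace hf.ne_refl hf.involutive (-f (c • v) (c • v)) (by rw [map_neg, self_fixed hf])
    exact ⟨l, he, by rw [hf.smul_left, (hv 0 hm).1, mul_zero], by linear_combination hl⟩
  -- isolate one root element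
  obtain ⟨hX', eX'⟩ := eic_eigen hf (mul_mem (mul_mem (inv_mem hw) hh) hw) hX h1' h2'
  have hXi : Ok σ f (e 0) ((-1 : F) • v) (σ l₀) := by
    refine ⟨he, by rw [hf.smul_left, (hv 0 hm).1, mul_zero], ?_⟩
    rw [hf.involutive, hf.smul_left, smul_right hf, hvv, map_neg, map_one]
    linear_combination hl₀
  have hYok := ok_add hf hXi hX'
  obtain ⟨lY, hlY⟩ : ∃ lY, σ l₀ + a' * σ a' * l₀ - f ((σ a' * ρ) • v) ((-1 : F) • v) = lY := ⟨_, rfl⟩
  rw [← add_smul, neg_add_eq_sub, hlY] at hYok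
  have hY : eic hf (e 0) ((σ a' * ρ - 1) • v) lY =
      (eic hf (e 0) v l₀)⁻¹ * (w⁻¹ * h * w * eic hf (e 0) v l₀ * (w⁻¹ * h * w)⁻¹) := by
    rw [eX', ← eic_inv hf hX, ← neg_one_smul F v, eic_mul hf hXi hX', ← add_smul, neg_add_eq_sub, hlY]
  have hex := extract_group hhM hbM (H.diag_comm hf hdiag (H.diag_conj hf hlt hwe hwd hwW hdiag)) hY
  obtain ⟨hY', eY'⟩ := eic_eigen hf hh hYok h1 (show mv h ((σ a' * ρ - 1) • v) = ρ • ((σ a' * ρ - 1) • v) by
    rw [mv_smul, h2, smul_comm])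
  have hYi : Ok σ f (e 0) (-((σ a' * ρ - 1) • v)) (σ lY) := by
    refine ⟨he, by rw [neg_left hf, hYok.2.1, neg_zero], ?_⟩
    rw [hf.involutive, neg_left hf, neg_right hf, neg_neg]
    linear_combination hYok.2.2
  rw [eY', ← eic_inv hf hYok, eic_mul hf hY' hYi] at hex
  -- all multiples
  let S : AddSubgroup F :=
    { carrier := {c | ∃ l, Ok σ f (e 0) (c • v) l ∧ eic hf (e 0) (c • v) l ∈ M}
      zero_mem' := ⟨0, by rw [zero_smul]; exact ok_anti hf he (by simp), by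
        rw [zero_smul, eic_zero hf he]; exact one_mem _⟩
      add_mem' := fun {x y} ⟨l, hl, hlm⟩ ⟨k, hk, hkm⟩ => ⟨_, by rw [add_smul]; exact ok_add hf hl hk,
        by rw [add_smul, ← eic_mul hf hl hk]; exact mul_mem hlm hkm⟩
      neg_mem' := fun {x} ⟨l, hl, hlm⟩ => ⟨σ l, by
          rw [neg_smul]
          exact ⟨he, by rw [neg_left hf, hl.2.1, neg_zero], by
            rw [hf.involutive, neg_left hf, neg_right hf, neg_neg]; linear_combination hl.2.2⟩,
        by rw [neg_smul, eic_inv hf hl]; exact inv_mem hlm⟩ }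
  have hc₀ : (σ a * ρ - 1) * (σ a' * ρ - 1) ∈ S := by
    have e1 : (σ a * ρ) • ((σ a' * ρ - 1) • v) + -((σ a' * ρ - 1) • v) =
        ((σ a * ρ - 1) * (σ a' * ρ - 1)) • v := by module
    have hok := ok_add hf hY' hYi
    rw [e1] at hok hex
    exact ⟨_, hok, hex⟩
  have hne : (σ a * ρ - 1) * (σ a' * ρ - 1) ≠ 0 := by
    refine mul_ne_zero (sub_ne_zero.2 fun h => ?_) (sub_ne_zero.2 hμ')
    have := hμ 1 one_pos (by rw [pow_one, h])
    omega
  have hS : ∀ c, c ∈ S := top_of_orbit hq hF S (mul_ne_zero ((map_ne_zero_iff σ σ.injective).2 ha) hρ) hμ hne hc₀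
    fun c ⟨l, hl, hlm⟩ => by
      obtain ⟨hl', el'⟩ := eic_eigen hf hh hl h1 (show mv h (c • v) = ρ • (c • v) by rw [mv_smul, h2, smul_comm])
      have := conj_mem' hhM hlm
      rw [el', smul_smul] at this
      rw [smul_smul] at hl'
      exact ⟨_, hl', this⟩
  have hcen : ∀ c, σ c = -c → eic hf (e 0) 0 c ∈ M := by
    intro c hc
    obtain ⟨t, ht0, ht⟩ := exists_anti hf.ne_refl hf.involutive
    obtain ⟨b, hb⟩ := exists_trace hf.ne_refl hf.involutive (c / t) (by rw [map_div₀, hc, ht, neg_div_neg_eq])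
    obtain ⟨l, hl, hlm⟩ := hS (t * b)
    obtain ⟨k, hk, hkm⟩ := hS 1
    have := mul_mem (mul_mem (mul_mem hlm hkm) (inv_mem hlm)) (inv_mem hkm)
    rw [eic_commutator hf hl hk] at this
    convert this using 2
    rw [one_smul, hf.smul_left, smul_right hf, hvv, map_mul, ht]
    field_simp at hb
    linear_combination -hb
  -- the whole core root group
  have hV0 : ∀ (c l : F), Ok σ f (e 0) (c • v) l → eic hf (e 0) (c • v) l ∈ M := by
    intro c l hl
    obtain ⟨k, hk, hkm⟩ := hS c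
    have hd' : σ (l - k) = -(l - k) := by rw [map_sub]; linear_combination hl.2.2 - hk.2.2
    have := mul_mem hkm (hcen _ hd')
    rwa [eic_mul hf hk (ok_anti hf he hd'), add_zero, zero_left hf, sub_zero, add_sub_cancel] at this
  have hXM : eic hf (e 0) v l₀ ∈ M := by
    simpa using hV0 1 l₀ (by simpa using hX)
  have hwM : w ∈ M := (Subgroup.mul_mem_cancel_right M hXM).1 hbM
  -- move it around
  have move : ∀ {u u' : ι → F} {r : F}, r ≠ 0 → mv w u = r • u' → f u u = 0 → f v u = 0 →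
      (∀ (c l : F), Ok σ f u (c • v) l → eic hf u (c • v) l ∈ M) →
      ∀ (c l : F), Ok σ f u' (c • v) l → eic hf u' (c • v) l ∈ M := by
    intro u u' r hr hwu huu hvu hU c l hl
    have hσr : σ r ≠ 0 := (map_ne_zero_iff σ σ.injective).2 hr
    have hok : Ok σ f u ((c / σ r) • v) (l / (r * σ r)) := by
      refine ⟨huu, by rw [hf.smul_left, hvu, mul_zero], ?_⟩
      have h3 := hl.2.2
      rw [hf.smul_left, smul_right hf, hvv] at h3
      rw [hf.smul_left, smul_right hf, hvv, map_div₀, map_div₀, map_mul, hf.involutive]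
      field_simp
      linear_combination h3
    have hm' := conj_eic_mem hf hMS hwM hok (hU _ _ hok)
    have hok' : Ok σ f u' ((c / σ r) • v) (l / (r * σ r)) := by
      refine ⟨hl.1, ?_, hok.2.2⟩
      have := hl.2.1
      rw [hf.smul_left] at this ⊢
      rcases mul_eq_zero.1 this with h | h
      · rw [h, zero_div, zero_mul]
      · rw [h, mul_zero]
    rwa [mv_smul, hwv, hwu, eic_scale hf r hok', smul_smul, mul_div_cancel₀ _ hσr,
      mul_div_cancel₀ _ (mul_ne_zero hr hσr)] at hm'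
  have hVe : ∀ i, i < m → ∀ (c l : F), Ok σ f (e i) (c • v) l → eic hf (e i) (c • v) l ∈ M := by
    intro i
    induction i with
    | zero => exact fun _ => hV0
    | succ i ih =>
      intro hi
      exact move one_ne_zero (by rw [one_smul, (hlt i hi).1]) (H.ee i (by omega) i (by omega))
        (hv i (by omega)).1 (ih (by omega))
  have hVd : ∀ i, i < m → ∀ (c l : F), Ok σ f (d i) (c • v) l → eic hf (d i) (c • v) l ∈ M := by
    intro i
    induction i with
    | zero =>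
      intro _
      exact move hs hwe (H.ee (m - 1) (by omega) (m - 1) (by omega)) (hv (m - 1) (by omega)).1
        (hVe (m - 1) (by omega))
    | succ i ih =>
      intro hi
      exact move one_ne_zero (by rw [one_smul, (hlt i hi).2]) (H.dd i (by omega) i (by omega))
        (hv i (by omega)).2 (ih (by omega))
  have piece : ∀ u : ι → F, f u u = 0 → f (e 0) u = 0 → f v u = 0 →
      (∀ (c l : F), Ok σ f u (c • v) l → eic hf u (c • v) l ∈ M) →
      ∀ c : F, ∃ l, Ok σ f (e 0) (c • u) l ∧ eic hf (e 0) (c • u) l ∈ M := by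
    intro u huu heu hvu hU c
    have hg : Ok σ f u ((1 : F) • v) l₀ :=
      ⟨huu, by rw [one_smul, hvu], by rw [one_smul, hvv]; linear_combination hl₀⟩
    obtain ⟨l, hl⟩ := hokv (-c)
    have hm' := conj_eic_mem hf hMS (hU 1 l₀ hg) hl (hV0 _ _ hl)
    have e1 : mv (eic hf u ((1 : F) • v) l₀) (e 0) = e 0 :=
      eic_fix hf hg heu (by rw [one_smul, H.eW hf hv hm])
    have e2 : mv (eic hf u ((1 : F) • v) l₀) ((-c) • v) = (-c) • v + c • u := by
      rw [mv_smul, mv_eic hf hg, hvu, one_smul, hvv]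
      module
    have hok1 := ok_map hf (eic_mem hf hg) hl
    rw [e1, e2] at hm' hok1
    obtain ⟨k, hk⟩ := hokv c
    have hsum : c • v + ((-c) • v + c • u) = c • u := by module
    have h3 := ok_add hf hk hok1
    have h4 := mul_mem (hV0 _ _ hk) hm'
    rw [eic_mul hf hk hok1] at h4
    rw [hsum] at h3 h4
    exact ⟨_, h3, h4⟩
  have hE0 : FullU hf M (e 0) := H.full_of_pieces hf hm hcen
    (fun i hi hne => piece (e i) (H.ee i hi i hi) (H.ee 0 hm i hi) (hv i hi).1 (hVe i hi))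
    (fun i hi hne => piece (d i) (H.dd i hi i hi) (H.ed0 hm hi hne.symm) (hv i hi).2 (hVd i hi))
    fun x hx => by
      obtain ⟨l, hl⟩ := hokv (f x v)
      rw [hspan x hx]
      exact ⟨l, hl, hV0 _ _ hl⟩
  have hEi : ∀ i, i < m → FullU hf M (e i) := by
    intro i
    induction i with
    | zero => exact fun _ => hE0
    | succ i ih =>
      intro hi
      exact fullU_of_mv hf hMS hwM one_ne_zero (by rw [one_smul, (hlt i hi).1]) (ih (by omega))
  exact H.le_of_full hf hm hn h32 hMS hE0 (fullU_of_mv hf hMS hwM hs hwe (hEi (m - 1) (by omega)))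

/-- **two generators**, even dimension -/
theorem even_gen (hm : 2 ≤ m) (hn : 4 ≤ Fintype.card ι) (hW : ∀ x, InW f m e d x → x = 0) {q : ℕ} (hq : 2 ≤ q)
    (hF : Nat.card F = q ^ 2) {θ : F} (hθ0 : θ ≠ 0) (hθ : ∀ k : ℕ, 0 < k → θ ^ k = 1 → q ^ 2 - 1 ≤ k) :
    ∃ g₁ ∈ sug f, ∃ g₂ ∈ sug f, sug f ≤ Subgroup.closure {g₁, g₂} := by
  have h0m : 0 < m := by omega
  have h1m : 1 < m := by omega
  obtain ⟨w, hw, s, s', hs, hs', hlt, hwe, hwd, hwW⟩ := H.exists_cycle hf h0m
  have hσθ : σ θ ≠ 0 := (map_ne_zero_iff σ σ.injective).2 hθ0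
  obtain ⟨h, hhdef⟩ : ∃ h, hel hf e d 0 1 θ = h := ⟨_, rfl⟩
  have hh : h ∈ sug f := hhdef ▸ H.hel_mem_sug hf h0m h1m (by omega) θ
  have hdiag : IsDiag f m e d h := hhdef ▸ H.hel_diag hf h0m h1m (by omega) hθ0
  have hX : Ok σ f (d 1) ((1 : F) • e 0) 0 := H.L_ok hf h0m h1m (by omega) 1
  have hX' : Ok σ f (d 1) (e 0) 0 := by rwa [one_smul] at hX
  refine ⟨h, hh, w * eic hf (d 1) (e 0) 0, mul_mem hw (eic_mem hf hX'), ?_⟩
  obtain ⟨M, hM⟩ : ∃ M, Subgroup.closure ({h, w * eic hf (d 1) (e 0) 0} : Set (GL ι F)) = M := ⟨_, rfl⟩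
  rw [hM]
  have hMS : M ≤ sug f := by
    rw [← hM, Subgroup.closure_le]
    exact Set.insert_subset_iff.2 ⟨hh, Set.singleton_subset_iff.2 (mul_mem hw (eic_mem hf hX'))⟩
  have hhM : h ∈ M := hM ▸ Subgroup.subset_closure (by simp)
  have hbM : w * eic hf (d 1) (e 0) 0 ∈ M := hM ▸ Subgroup.subset_closure (by simp)
  have d1 : mv h (d 1) = σ θ • d 1 := hhdef ▸ H.hel_dj hf h0m h1m (by omega) hθ0
  have e0 : mv h (e 0) = θ • e 0 := hhdef ▸ H.hel_ei hf h0m h1m (by omega) hθ0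
  have e0' : mv (w⁻¹ * h * w) (e 0) = θ⁻¹ • e 0 :=
    conj_apply_of (by rw [(hlt 0 (by omega)).1, ← hhdef, H.hel_ej hf h0m h1m (by omega) hθ0])
  have hbig : 3 ≤ q ^ 2 - 1 := by
    have h4 : 2 ^ 2 ≤ q ^ 2 := Nat.pow_le_pow_left hq 2
    omega
  have hθ1 : θ ≠ 1 := fun h => by have := hθ 1 one_pos (by rw [pow_one, h]); omega
  obtain ⟨μ', a', hμ', d1'⟩ : ∃ μ' a', (σ a' * θ⁻¹ = μ' ∧ μ' ≠ 1) ∧ mv (w⁻¹ * h * w) (d 1) = a' • d 1 := by
    by_cases h2 : m = 2
    · subst h2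
      refine ⟨_, θ, ⟨rfl, fun h => ?_⟩, conj_apply_of (by
        rw [show (1 : ℕ) = 2 - 1 from rfl, hwd, mv_smul, e0, smul_comm])⟩
      rw [mul_inv_eq_one₀ hθ0] at h
      have hq' : θ ^ q = θ := by
        have hcard : Nat.card (fixedField σ) = q := by
          have := card_eq_sq hf.ne_refl hf.involutive
          rw [hF] at this
          exact (Nat.pow_left_injective two_ne_zero this).symm
        rw [← hcard, ← apply_eq_pow hf.ne_refl hf.involutive, h]
      have h5 : θ ^ (q - 1) = 1 := by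
        have : θ ^ (q - 1) * θ = 1 * θ := by rw [← pow_succ, Nat.sub_add_cancel (by omega), hq', one_mul]
        exact mul_right_cancel₀ hθ0 this
      have := hθ (q - 1) (by omega) h5
      have : q ≤ q ^ 2 := Nat.le_self_pow two_ne_zero q
      nlinarith [Nat.sub_add_cancel (show 1 ≤ q ^ 2 by nlinarith), Nat.sub_add_cancel (show 1 ≤ q by omega)]
    · refine ⟨_, 1, ⟨rfl, by rw [map_one, one_mul]; exact inv_ne_one.2 hθ1⟩, conj_apply_of (by
        rw [(hlt 1 (by omega)).2, one_smul, ← hhdef,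
          H.hel_dk hf h0m h1m (by omega) θ (by omega) (by omega) (by omega)])⟩
  -- isolate one root element
  obtain ⟨hX1, eX1⟩ := eic_eigen hf (mul_mem (mul_mem (inv_mem hw) hh) hw) hX' d1' e0'
  rw [mul_zero, hμ'.1] at hX1 eX1
  have hXi : Ok σ f (d 1) ((-1 : F) • e 0) 0 := H.L_ok hf h0m h1m (by omega) _
  have hY : eic hf (d 1) ((μ' - 1) • e 0) 0 =
      (eic hf (d 1) (e 0) 0)⁻¹ * (w⁻¹ * h * w * eic hf (d 1) (e 0) 0 * (w⁻¹ * h * w)⁻¹) := by
    rw [eX1, ← eic_inv hf hX', map_zero, ← neg_one_smul F (e 0), eic_mul hf hXi hX1, ← add_smul,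
      neg_add_eq_sub, hf.smul_left, smul_right hf, H.ee 0 h0m 0 h0m, mul_zero, mul_zero, sub_zero, add_zero]
  have hex := extract_group hhM hbM (H.diag_comm hf hdiag (H.diag_conj hf hlt hwe hwd hwW hdiag)) hY
  have hYok : Ok σ f (d 1) ((μ' - 1) • e 0) 0 := H.L_ok hf h0m h1m (by omega) _
  have scale01 : ∀ c : F, h * eic hf (d 1) (c • e 0) 0 * h⁻¹ = eic hf (d 1) ((θ ^ 2 * c) • e 0) 0 := by
    intro c
    have := (eic_eigen hf hh (H.L_ok hf h0m h1m (by omega) c) d1
      (show mv h (c • e 0) = θ • (c • e 0) by rw [mv_smul, e0, smul_comm])).2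
    rw [this, hf.involutive, mul_zero, smul_smul, ← pow_two]
  let S : AddSubgroup F :=
    { carrier := {c | eic hf (d 1) (c • e 0) 0 ∈ M}
      zero_mem' := by
        show eic hf (d 1) ((0 : F) • e 0) 0 ∈ M
        rw [zero_smul, eic_zero hf (H.dd 1 h1m 1 h1m)]
        exact one_mem _
      add_mem' := fun {x y} (hx : _ ∈ M) (hy : _ ∈ M) => by
        show eic hf (d 1) ((x + y) • e 0) 0 ∈ M
        have := mul_mem hx hy
        rwa [eic_mul hf (H.L_ok hf h0m h1m (by omega) x) (H.L_ok hf h0m h1m (by omega) y), hf.smul_left,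
          smul_right hf, H.ee 0 h0m 0 h0m, mul_zero, mul_zero, sub_zero, add_zero, ← add_smul] at this
      neg_mem' := fun {x} (hx : _ ∈ M) => by
        show eic hf (d 1) ((-x) • e 0) 0 ∈ M
        have := inv_mem hx
        rwa [← eic_inv hf (H.L_ok hf h0m h1m (by omega) x), map_zero, ← neg_smul] at this }
  have hc₀ : (θ ^ 2 - 1) * (μ' - 1) ∈ S := by
    show eic hf (d 1) (((θ ^ 2 - 1) * (μ' - 1)) • e 0) 0 ∈ M
    rw [scale01, ← eic_inv hf hYok, map_zero, ← neg_smul,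
      eic_mul hf (H.L_ok hf h0m h1m (by omega) _) (H.L_ok hf h0m h1m (by omega) _), hf.smul_left, smul_right hf,
      H.ee 0 h0m 0 h0m, mul_zero, mul_zero, sub_zero, add_zero, ← add_smul,
      show θ ^ 2 * (μ' - 1) + -(μ' - 1) = (θ ^ 2 - 1) * (μ' - 1) by ring] at hex
    exact hex
  have hord : ∀ k, 0 < k → (θ ^ 2) ^ k = 1 → q ≤ k := ord_bound hθ two_pos (by
    have hmul := Nat.mul_le_mul_right q hq
    rw [pow_two] at hbig ⊢
    omega) fun k h => by rw [pow_mul, h]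
  have hne : (θ ^ 2 - 1) * (μ' - 1) ≠ 0 := by
    refine mul_ne_zero (sub_ne_zero.2 fun h => ?_) (sub_ne_zero.2 hμ'.2)
    have := hθ 2 two_pos h
    omega
  have hL01 : ∀ c : F, eic hf (d 1) (c • e 0) 0 ∈ M := top_of_orbit hq hF S (pow_ne_zero 2 hθ0) hord hne hc₀
    fun c (hc : _ ∈ M) => show eic hf (d 1) ((θ ^ 2 * c) • e 0) 0 ∈ M from scale01 c ▸ conj_mem' hhM hc
  have hwM : w ∈ M := (Subgroup.mul_mem_cancel_right M (by simpa using hL01 1)).1 hbM
  -- spread along the cycle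
  have up : ∀ i, i + 1 < m → ∀ c : F, eic hf (d (i + 1)) (c • e i) 0 ∈ M := by
    intro i
    induction i with
    | zero => exact fun _ => hL01
    | succ i ih =>
      intro hi c
      have := conj_eic_mem hf hMS hwM (H.L_ok hf (by omega) (by omega) (by omega) c) (ih (by omega) c)
      rwa [(hlt (i + 1) hi).2, mv_smul, (hlt i (by omega)).1] at this
  have hok0 : ∀ j < m, j ≠ 0 → ∀ c : F, Ok σ f (e 0) (c • e j) 0 := fun j hj hj0 c =>
    ok_iso hf (H.ee 0 h0m 0 h0m) (by rw [hf.smul_left, smul_right hf, H.ee j hj j hj, mul_zero, mul_zero])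
      (by rw [hf.smul_left, H.ee j hj 0 h0m, mul_zero])
  have hPlast : ∀ c : F, eic hf (e 0) (c • e (m - 1)) 0 ∈ M := by
    intro c
    have hok := H.L_ok hf (i := m - 2) (j := m - 1) (by omega) (by omega) (by omega) ((σ s')⁻¹ * c)
    have h' := conj_eic_mem hf hMS hwM hok (by
      have := up (m - 2) (by omega) ((σ s')⁻¹ * c)
      rwa [show m - 2 + 1 = m - 1 by omega] at this)
    rwa [hwd, mv_smul, (hlt (m - 2) (by omega)).1, show m - 2 + 1 = m - 1 by omega,
      eic_scale hf s' (hok0 (m - 1) (by omega) (by omega) _), smul_smul,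
      mul_inv_cancel_left₀ ((map_ne_zero_iff σ σ.injective).2 hs'), mul_zero] at h'
  have hL10 : ∀ c : F, eic hf (d 0) (c • e 1) 0 ∈ M := by
    intro c
    obtain ⟨c', hc'⟩ : ∃ c', -σ c / s = c' := ⟨_, rfl⟩
    have h' := conj_eic_mem hf hMS hwM (hok0 (m - 1) (by omega) (by omega) c') (hPlast c')
    rw [(hlt 0 (by omega)).1, mv_smul, hwe, smul_smul, zero_add,
      show c' * s = -σ c by rw [← hc', div_mul_cancel₀ _ hs],
      eic_swap hf (H.ee 1 h1m 1 h1m)
        (by rw [hf.smul_left, smul_right hf, H.dd 0 h0m 0 h0m, mul_zero, mul_zero])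
        (by rw [hf.smul_left, H.de0 h0m h1m (by omega), mul_zero]), ← neg_one_smul F (e 1),
      eic_scale hf _ (H.L_ok hf h1m h0m (by omega) (-1)), map_neg, hf.involutive, smul_smul, neg_mul_neg,
      mul_one, mul_zero] at h'
    exact h'
  have down : ∀ i, i + 1 < m → ∀ c : F, eic hf (d i) (c • e (i + 1)) 0 ∈ M := by
    intro i
    induction i with
    | zero => exact fun _ => hL10
    | succ i ih =>
      intro hi c
      have := conj_eic_mem hf hMS hwM (H.L_ok hf (by omega) (by omega) (by omega) c) (ih (by omega) c)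
      rwa [(hlt i (by omega)).2, mv_smul, (hlt (i + 1) hi).1] at this
  have down0 : ∀ k, k + 1 < m → ∀ c : F, eic hf (d 0) (c • e (k + 1)) 0 ∈ M := by
    intro k
    induction k with
    | zero => exact fun _ => hL10
    | succ k ih =>
      intro hk
      exact H.L_trans hf hMS hk (by omega) h0m (by omega) (by omega) (by omega) (down (k + 1) hk)
        (ih (by omega))
  have hL : ∀ i < m, ∀ j < m, i ≠ j → ∀ c : F, eic hf (d j) (c • e i) 0 ∈ M :=
    TwoGenOrth.all_of_cycle (fun a b => ∀ c : F, eic hf (d b) (c • e a) 0 ∈ M)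
      (fun _ hi _ hj _ hk hij hjk hik h1 h2 => H.L_trans hf hMS hi hj hk hij hjk hik h1 h2) up
      (by simpa [show m - 2 + 1 = m - 1 by omega] using down0 (m - 2) (by omega))
  have pshift : ∀ j < m, j ≠ 0 → (∀ c : F, eic hf (e 0) (c • e j) 0 ∈ M) →
      ∀ k < m, k ≠ 0 → k ≠ j → ∀ c : F, eic hf (e 0) (c • e k) 0 ∈ M := by
    intro j hj hj0 hPj k hk hk0 hkj c
    have h' := conj_eic_mem hf hMS (hL k hk j hj hkj c) (hok0 j hj hj0 1) (hPj 1)
    rw [H.L_fix hf hk hj hkj c (H.ed0 h0m hj (Ne.symm hj0)) (H.ee 0 h0m k hk), mv_smul, H.L_e hf hk hj hkj,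
      one_smul] at h'
    have e' : eic hf (e 0) (e j + c • e k) 0 = eic hf (e 0) ((1 : F) • e j) 0 * eic hf (e 0) (c • e k) 0 := by
      rw [eic_mul hf (hok0 j hj hj0 1) (hok0 k hk hk0 c), one_smul, hf.smul_left, H.ee k hk j hj, mul_zero,
        sub_zero, add_zero]
    rw [e'] at h'
    exact (Subgroup.mul_mem_cancel_left M (hPj 1)).1 h'
  have hP1 : ∀ c : F, eic hf (e 0) (c • e 1) 0 ∈ M := by
    by_cases h2 : m = 2
    · subst h2; exact hPlast
    · exact pshift (m - 1) (by omega) (by omega) hPlast 1 h1m one_ne_zero (by omega)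
  have hE : ∀ i < m, i ≠ 0 → ∀ c : F, eic hf (e 0) (c • e i) 0 ∈ M := fun i hi hi0 => by
    rcases eq_or_ne i 1 with rfl | h1
    · exact hP1
    · exact pshift 1 h1m one_ne_zero hP1 i hi hi0 h1
  have hokD : ∀ j < m, j ≠ 0 → ∀ c : F, Ok σ f (e 0) (c • d j) 0 := fun j hj hj0 c =>
    ok_iso hf (H.ee 0 h0m 0 h0m) (by rw [hf.smul_left, smul_right hf, H.dd j hj j hj, mul_zero, mul_zero])
      (by rw [hf.smul_left, H.de0 hj h0m hj0, mul_zero])
  have hD : ∀ i < m, i ≠ 0 → ∀ c : F, eic hf (e 0) (c • d i) 0 ∈ M := fun i hi hi0 c => by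
    rw [eic_swap hf (H.ee 0 h0m 0 h0m)
        (by rw [hf.smul_left, smul_right hf, H.dd i hi i hi, mul_zero, mul_zero])
        (by rw [hf.smul_left, H.de0 hi h0m hi0, mul_zero]), ← neg_one_smul F (e 0),
      eic_scale hf c (H.L_ok hf h0m hi (Ne.symm hi0) (-1)), smul_smul, mul_zero]
    exact hL 0 h0m i hi (Ne.symm hi0) _
  have hcen : ∀ c, σ c = -c → eic hf (e 0) 0 c ∈ M := by
    intro c hc
    obtain ⟨t, ht0, ht⟩ := exists_anti hf.ne_refl hf.involutive
    obtain ⟨b, hb⟩ := exists_trace hf.ne_refl hf.involutive (c / t) (by rw [map_div₀, hc, ht, neg_div_neg_eq])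
    have h1' := hE 1 h1m one_ne_zero (t * b)
    have h2' := hD 1 h1m one_ne_zero 1
    have := mul_mem (mul_mem (mul_mem h1' h2') (inv_mem h1')) (inv_mem h2')
    rw [eic_commutator hf (hok0 1 h1m one_ne_zero _) (hokD 1 h1m one_ne_zero _)] at this
    convert this using 2
    rw [one_smul, hf.smul_left, smul_right hf, H.ed1 h1m, H.de1 h1m, map_mul, ht]
    field_simp at hb
    linear_combination -hb
  have hE0 : FullU hf M (e 0) := H.full_of_pieces hf h0m hcen
    (fun i hi hne a => ⟨0, hok0 i hi hne a, hE i hi hne a⟩)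
    (fun i hi hne a => ⟨0, hokD i hi hne a, hD i hi hne a⟩)
    fun x hx => by
      rw [hW x hx]
      exact ⟨0, ok_anti hf (H.ee 0 h0m 0 h0m) (by simp), by rw [eic_zero hf (H.ee 0 h0m 0 h0m)]; exact one_mem _⟩
  have hEi : ∀ i, i < m → FullU hf M (e i) := by
    intro i
    induction i with
    | zero => exact fun _ => hE0
    | succ i ih =>
      intro hi
      exact fullU_of_mv hf hMS hwM one_ne_zero (by rw [one_smul, (hlt i hi).1]) (ih (by omega))
  exact H.le_of_full hf h0m (by omega) (fun h => by omega) hMS hE0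
    (fullU_of_mv hf hMS hwM hs hwe (hEi (m - 1) (by omega)))

end Sys

end Cfsg.Agent.TwoGenUnit
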