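import Cfsg.Agent.Lib.Classical.TwoGenUnit.Basic
import Cfsg.Agent.Lib.Classical.TwoGenOrth.Monomial

/-!
Monomial and diagonal elements of a unitary hyperbolic system, and orbits generating the field.
-/

set_option autoImplicit false

namespace Cfsg.Agent.TwoGenUnit

open scoped Matrix
open Matrix Cfsg.Agent.Transvec Cfsg.Agent.Transvec.Herm Cfsg.Agent.UnitarySimple

variable {ι : Type} [Fintype ι] [DecidableEq ι] {F : Type*} [Field F]
variable {σ : F ≃+* F} {f : (ι → F) → (ι → F) → F}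

/-- an additive subgroup stable under a multiplier of large order is everything -/
theorem top_of_orbit [Finite F] {q : ℕ} (hq : 2 ≤ q) (hF : Nat.card F = q ^ 2) (S : AddSubgroup F) {μ c₀ : F}
    (hμ : μ ≠ 0) (hord : ∀ k, 0 < k → μ ^ k = 1 → q ≤ k) (hc₀ : c₀ ≠ 0) (h0 : c₀ ∈ S)
    (hmul : ∀ c ∈ S, μ * c ∈ S) (c : F) : c ∈ S := by
  classical
  have : Fintype F := Fintype.ofFinite F
  let R : Subring F :=
    { carrier := {x | ∀ a ∈ S, x * a ∈ S}
      one_mem' := fun a ha => by rwa [one_mul]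
      mul_mem' := fun {x y} hx hy a ha => by rw [mul_assoc]; exact hx _ (hy a ha)
      zero_mem' := fun a ha => by rw [zero_mul]; exact S.zero_mem
      add_mem' := fun {x y} hx hy a ha => by rw [add_mul]; exact S.add_mem (hx a ha) (hy a ha)
      neg_mem' := fun {x} hx a ha => by rw [neg_mul]; exact S.neg_mem (hx a ha) }
  have hμR : μ ∈ R := hmul
  suffices hR : ∀ x, x ∈ R by
    have := hR (c / c₀) c₀ h0
    rwa [div_mul_cancel₀ _ hc₀] at this
  have hpos : 0 < orderOf μ := orderOf_pos_iff.2 (isOfFinOrder_iff_pow_eq_one.2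
    ⟨Fintype.card F - 1, by have := Fintype.one_lt_card (α := F); omega,
      FiniteField.pow_card_sub_one_eq_one μ hμ⟩)
  have hcard : orderOf μ + 1 ≤ Nat.card R := by
    rw [← Nat.card_fin (orderOf μ), ← Finite.card_option]
    refine Nat.card_le_card_of_injective
      (fun o => (⟨o.elim 0 (fun k : Fin (orderOf μ) => μ ^ (k : ℕ)), ?_⟩ : R)) ?_
    · rcases o with _ | k
      · exact R.zero_mem
      · exact pow_mem hμR _
    · rintro (_ | a) (_ | b) h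
      · rfl
      · exact absurd (congrArg Subtype.val h).symm (pow_ne_zero _ hμ)
      · exact absurd (congrArg Subtype.val h) (pow_ne_zero _ hμ)
      · exact congrArg some (Fin.ext (pow_injOn_Iio_orderOf a.2 b.2 (congrArg Subtype.val h)))
  have hle : q ≤ orderOf μ := hord _ hpos (pow_orderOf_eq_one μ)
  intro x
  by_contra hx
  let : Field R := Fintype.fieldOfDomain R
  obtain ⟨k, hk⟩ : ∃ k, Nat.card F = Nat.card R ^ k :=
    ⟨_, Module.natCard_eq_pow_finrank (K := R) (V := F)⟩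
  have hlt : Nat.card R < Nat.card F := by
    have h2 : Function.Injective (fun r : R => (r : F)) := Subtype.val_injective
    rcases lt_or_eq_of_le (Nat.card_le_card_of_injective _ h2) with h | h
    · exact h
    · obtain ⟨y, hy⟩ := ((Nat.bijective_iff_injective_and_card _).2 ⟨h2, h⟩).2 x
      exact absurd (hy ▸ y.2) hx
  rw [hF] at hk hlt
  have hk2 : 2 ≤ k := by
    rcases Nat.lt_or_ge k 2 with h | h
    · interval_cases k
      · rw [pow_zero] at hk; nlinarith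
      · rw [pow_one] at hk; omega
    · exact h
  have hr1 : 1 ≤ Nat.card R := Nat.card_pos
  have : Nat.card R ^ 2 ≤ q ^ 2 := hk ▸ Nat.pow_le_pow_right hr1 hk2
  have := (Nat.pow_le_pow_iff_left two_ne_zero).1 this
  omega

variable (hf : Geo.IsUnitaryForm σ f)

/-- the monomial element interchanging two lines of each half -/
noncomputable def nel (e d : ℕ → ι → F) (i j : ℕ) (t : F) : GL ι F :=
  eic hf (d j) (t • e i) 0 * eic hf (d i) ((-t⁻¹) • e j) 0 * eic hf (d j) (t • e i) 0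

/-- the diagonal element of a pair of indices -/
noncomputable def hel (e d : ℕ → ι → F) (i j : ℕ) (t : F) : GL ι F :=
  nel hf e d i j t * nel hf e d i j (-1)

/-- the cycle on the first `k + 1` indices -/
noncomputable def wS (e d : ℕ → ι → F) : ℕ → GL ι F
  | 0 => 1
  | k + 1 => wS e d k * nel hf e d (k + 1) k 1

/-- every frame line and the core scaled -/
def IsDiag (f : (ι → F) → (ι → F) → F) (m : ℕ) (e d : ℕ → ι → F) (g : GL ι F) : Prop :=
  (∀ l < m, (∃ c : F, mv g (e l) = c • e l) ∧ ∃ c : F, mv g (d l) = c • d l) ∧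
    ∃ ρ : F, ∀ w, InW f m e d w → mv g w = ρ • w

theorem conj_apply_of {w h : GL ι F} {x : ι → F} {c : F} (hx : mv h (mv w x) = c • mv w x) :
    mv (w⁻¹ * h * w) x = c • x := by
  rw [mv_mul, mv_mul, hx, mv_smul, mv_inv_mv]

include hf

namespace Sys

variable {m : ℕ} {e d : ℕ → ι → F} (H : Sys f m e d)

include H

theorem L_ok {i j : ℕ} (hi : i < m) (hj : j < m) (hij : i ≠ j) (t : F) :
    Ok σ f (d j) (t • e i) 0 :=
  ok_iso hf (H.dd j hj j hj) (by rw [hf.smul_left, smul_right hf, H.ee i hi i hi, mul_zero, mul_zero])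
    (by rw [hf.smul_left, H.ed0 hi hj hij, mul_zero])

theorem L_e {i j : ℕ} (hi : i < m) (hj : j < m) (hij : i ≠ j) (t : F) :
    mv (eic hf (d j) (t • e i) 0) (e j) = e j + t • e i := by
  rw [mv_eic hf (H.L_ok hf hi hj hij t), H.ed1 hj, smul_right hf, H.ee j hj i hi]
  module

theorem L_d {i j : ℕ} (hi : i < m) (hj : j < m) (hij : i ≠ j) (t : F) :
    mv (eic hf (d j) (t • e i) 0) (d i) = d i - σ t • d j := by
  rw [mv_eic hf (H.L_ok hf hi hj hij t), H.dd i hi j hj, smul_right hf, H.de1 hi]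
  module

theorem L_fix {i j : ℕ} (hi : i < m) (hj : j < m) (hij : i ≠ j) (t : F) {x : ι → F}
    (h1 : f x (d j) = 0) (h2 : f x (e i) = 0) : mv (eic hf (d j) (t • e i) 0) x = x :=
  eic_fix hf (H.L_ok hf hi hj hij t) h1 (by rw [smul_right hf, h2, mul_zero])

theorem nel_apply (i j : ℕ) (t : F) (x : ι → F) : mv (nel hf e d i j t) x =
    mv (eic hf (d j) (t • e i) 0) (mv (eic hf (d i) ((-t⁻¹) • e j) 0) (mv (eic hf (d j) (t • e i) 0) x)) := by
  rw [nel, mv_mul, mv_mul]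

theorem nel_ej {i j : ℕ} (hi : i < m) (hj : j < m) (hij : i ≠ j) {t : F} (ht : t ≠ 0) :
    mv (nel hf e d i j t) (e j) = t • e i := by
  rw [H.nel_apply hf, H.L_e hf hi hj hij, mv_add, mv_smul,
    H.L_fix hf hj hi hij.symm _ (H.ed0 hj hi hij.symm) (H.ee j hj j hj), H.L_e hf hj hi hij.symm, smul_add,
    smul_smul, mul_neg, mul_inv_cancel₀ ht,
    show e j + (t • e i + (-1 : F) • e j) = t • e i by module, mv_smul,
    H.L_fix hf hi hj hij _ (H.ed0 hi hj hij) (H.ee i hi i hi)]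

theorem nel_ei {i j : ℕ} (hi : i < m) (hj : j < m) (hij : i ≠ j) {t : F} (ht : t ≠ 0) :
    mv (nel hf e d i j t) (e i) = (-t⁻¹) • e j := by
  rw [H.nel_apply hf, H.L_fix hf hi hj hij _ (H.ed0 hi hj hij) (H.ee i hi i hi), H.L_e hf hj hi hij.symm, mv_add,
    mv_smul, H.L_fix hf hi hj hij _ (H.ed0 hi hj hij) (H.ee i hi i hi), H.L_e hf hi hj hij, smul_add, smul_smul,
    neg_mul, inv_mul_cancel₀ ht]
  module

theorem nel_di {i j : ℕ} (hi : i < m) (hj : j < m) (hij : i ≠ j) {t : F} (ht : t ≠ 0) :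
    mv (nel hf e d i j t) (d i) = (-σ t) • d j := by
  rw [H.nel_apply hf, H.L_d hf hi hj hij, mv_sub, mv_smul,
    H.L_fix hf hj hi hij.symm _ (H.dd i hi i hi) (H.de0 hi hj hij), H.L_d hf hj hi hij.symm, smul_sub, smul_smul,
    map_neg, map_inv₀, mul_neg, mul_inv_cancel₀ ((map_ne_zero_iff σ σ.injective).2 ht),
    show d i - (σ t • d j - (-1 : F) • d i) = (-σ t) • d j by module, mv_smul,
    H.L_fix hf hi hj hij _ (H.dd j hj j hj) (H.de0 hj hi hij.symm)]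

theorem nel_dj {i j : ℕ} (hi : i < m) (hj : j < m) (hij : i ≠ j) {t : F} (ht : t ≠ 0) :
    mv (nel hf e d i j t) (d j) = (σ t)⁻¹ • d i := by
  rw [H.nel_apply hf, H.L_fix hf hi hj hij _ (H.dd j hj j hj) (H.de0 hj hi hij.symm), H.L_d hf hj hi hij.symm,
    mv_sub, mv_smul, H.L_fix hf hi hj hij _ (H.dd j hj j hj) (H.de0 hj hi hij.symm), H.L_d hf hi hj hij,
    smul_sub, smul_smul, map_neg, map_inv₀, neg_mul, inv_mul_cancel₀ ((map_ne_zero_iff σ σ.injective).2 ht)]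
  module

theorem nel_fix {i j : ℕ} (hi : i < m) (hj : j < m) (hij : i ≠ j) (t : F) {x : ι → F}
    (h1 : f x (e i) = 0) (h2 : f x (d i) = 0) (h3 : f x (e j) = 0) (h4 : f x (d j) = 0) :
    mv (nel hf e d i j t) x = x := by
  rw [H.nel_apply hf, H.L_fix hf hi hj hij _ h4 h1, H.L_fix hf hj hi hij.symm _ h2 h3,
    H.L_fix hf hi hj hij _ h4 h1]

theorem nel_ek {i j k : ℕ} (hi : i < m) (hj : j < m) (hij : i ≠ j) (t : F) (hk : k < m) (hki : k ≠ i)
    (hkj : k ≠ j) : mv (nel hf e d i j t) (e k) = e k :=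
  H.nel_fix hf hi hj hij t (H.ee k hk i hi) (H.ed0 hk hi hki) (H.ee k hk j hj) (H.ed0 hk hj hkj)

theorem nel_dk {i j k : ℕ} (hi : i < m) (hj : j < m) (hij : i ≠ j) (t : F) (hk : k < m) (hki : k ≠ i)
    (hkj : k ≠ j) : mv (nel hf e d i j t) (d k) = d k :=
  H.nel_fix hf hi hj hij t (H.de0 hk hi hki) (H.dd k hk i hi) (H.de0 hk hj hkj) (H.dd k hk j hj)

theorem nel_W {i j : ℕ} (hi : i < m) (hj : j < m) (hij : i ≠ j) (t : F) {w : ι → F} (hw : InW f m e d w) :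
    mv (nel hf e d i j t) w = w :=
  H.nel_fix hf hi hj hij t (hw i hi).1 (hw i hi).2 (hw j hj).1 (hw j hj).2

theorem nel_mem_sug {i j : ℕ} (hi : i < m) (hj : j < m) (hij : i ≠ j) (t : F) :
    nel hf e d i j t ∈ sug f :=
  mul_mem (mul_mem (eic_mem hf (H.L_ok hf hi hj hij _)) (eic_mem hf (H.L_ok hf hj hi hij.symm _)))
    (eic_mem hf (H.L_ok hf hi hj hij _))

theorem hel_mem_sug {i j : ℕ} (hi : i < m) (hj : j < m) (hij : i ≠ j) (t : F) :
    hel hf e d i j t ∈ sug f := mul_mem (H.nel_mem_sug hf hi hj hij _) (H.nel_mem_sug hf hi hj hij _)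

theorem hel_ei {i j : ℕ} (hi : i < m) (hj : j < m) (hij : i ≠ j) {t : F} (ht : t ≠ 0) :
    mv (hel hf e d i j t) (e i) = t • e i := by
  rw [hel, mv_mul, H.nel_ei hf hi hj hij (neg_ne_zero.2 one_ne_zero), mv_smul, H.nel_ej hf hi hj hij ht,
    inv_neg, inv_one, neg_neg, one_smul]

theorem hel_ej {i j : ℕ} (hi : i < m) (hj : j < m) (hij : i ≠ j) {t : F} (ht : t ≠ 0) :
    mv (hel hf e d i j t) (e j) = t⁻¹ • e j := by
  rw [hel, mv_mul, H.nel_ej hf hi hj hij (neg_ne_zero.2 one_ne_zero), mv_smul, H.nel_ei hf hi hj hij ht,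
    smul_smul, neg_mul_neg, one_mul]

theorem hel_di {i j : ℕ} (hi : i < m) (hj : j < m) (hij : i ≠ j) {t : F} (ht : t ≠ 0) :
    mv (hel hf e d i j t) (d i) = (σ t)⁻¹ • d i := by
  rw [hel, mv_mul, H.nel_di hf hi hj hij (neg_ne_zero.2 one_ne_zero), mv_smul, H.nel_dj hf hi hj hij ht, map_neg,
    map_one, neg_neg, one_smul]

theorem hel_dj {i j : ℕ} (hi : i < m) (hj : j < m) (hij : i ≠ j) {t : F} (ht : t ≠ 0) :
    mv (hel hf e d i j t) (d j) = σ t • d j := by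
  rw [hel, mv_mul, H.nel_dj hf hi hj hij (neg_ne_zero.2 one_ne_zero), mv_smul, H.nel_di hf hi hj hij ht,
    smul_smul, map_neg, map_one, inv_neg, inv_one, neg_mul_neg, one_mul]

theorem hel_ek {i j k : ℕ} (hi : i < m) (hj : j < m) (hij : i ≠ j) (t : F) (hk : k < m) (hki : k ≠ i)
    (hkj : k ≠ j) : mv (hel hf e d i j t) (e k) = e k := by
  rw [hel, mv_mul, H.nel_ek hf hi hj hij _ hk hki hkj, H.nel_ek hf hi hj hij _ hk hki hkj]

theorem hel_dk {i j k : ℕ} (hi : i < m) (hj : j < m) (hij : i ≠ j) (t : F) (hk : k < m) (hki : k ≠ i)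
    (hkj : k ≠ j) : mv (hel hf e d i j t) (d k) = d k := by
  rw [hel, mv_mul, H.nel_dk hf hi hj hij _ hk hki hkj, H.nel_dk hf hi hj hij _ hk hki hkj]

theorem hel_W {i j : ℕ} (hi : i < m) (hj : j < m) (hij : i ≠ j) (t : F) {w : ι → F} (hw : InW f m e d w) :
    mv (hel hf e d i j t) w = w := by
  rw [hel, mv_mul, H.nel_W hf hi hj hij _ hw, H.nel_W hf hi hj hij _ hw]

theorem hel_diag {i j : ℕ} (hi : i < m) (hj : j < m) (hij : i ≠ j) {t : F} (ht : t ≠ 0) :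
    IsDiag f m e d (hel hf e d i j t) := by
  refine ⟨fun l hl => ?_, 1, fun w hw => by rw [one_smul, H.hel_W hf hi hj hij t hw]⟩
  rcases eq_or_ne l i with rfl | hli
  · exact ⟨⟨_, H.hel_ei hf hi hj hij ht⟩, _, H.hel_di hf hi hj hij ht⟩
  rcases eq_or_ne l j with rfl | hlj
  · exact ⟨⟨_, H.hel_ej hf hi hj hij ht⟩, _, H.hel_dj hf hi hj hij ht⟩
  exact ⟨⟨1, by rw [one_smul, H.hel_ek hf hi hj hij t hl hli hlj]⟩, 1,
    by rw [one_smul, H.hel_dk hf hi hj hij t hl hli hlj]⟩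

theorem diag_comm {g g' : GL ι F} (hg : IsDiag f m e d g) (hg' : IsDiag f m e d g') : g * g' = g' * g := by
  obtain ⟨hg, ρ, hρ⟩ := hg
  obtain ⟨hg', ρ', hρ'⟩ := hg'
  refine H.ext hf (fun l hl => ?_) (fun l hl => ?_) fun w hw => ?_
  · obtain ⟨a, ha⟩ := (hg l hl).1
    obtain ⟨b, hb⟩ := (hg' l hl).1
    rw [mv_mul, mv_mul, hb, ha, mv_smul, mv_smul, ha, hb, smul_comm]
  · obtain ⟨a, ha⟩ := (hg l hl).2
    obtain ⟨b, hb⟩ := (hg' l hl).2
    rw [mv_mul, mv_mul, hb, ha, mv_smul, mv_smul, ha, hb, smul_comm]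
  · rw [mv_mul, mv_mul, hρ' w hw, hρ w hw, mv_smul, mv_smul, hρ w hw, hρ' w hw, smul_comm]

theorem wS_mem_sug : ∀ {k : ℕ}, k < m → wS hf e d k ∈ sug f
  | 0, _ => one_mem _
  | k + 1, hk => mul_mem (wS_mem_sug (by omega)) (H.nel_mem_sug hf hk (by omega) (by omega) 1)

theorem wS_W : ∀ {k : ℕ}, k < m → ∀ {w : ι → F}, InW f m e d w → mv (wS hf e d k) w = w
  | 0, _, w, _ => mv_one w
  | k + 1, hk, w, hw => by
    rw [wS, mv_mul, H.nel_W hf hk (by omega) (by omega) _ hw, wS_W (by omega) hw]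

theorem wS_gt : ∀ {k : ℕ}, k < m → ∀ {i : ℕ}, k < i → i < m →
    mv (wS hf e d k) (e i) = e i ∧ mv (wS hf e d k) (d i) = d i
  | 0, _, i, _, _ => ⟨mv_one _, mv_one _⟩
  | k + 1, hk, i, hki, hi => by
    rw [wS, mv_mul, mv_mul, H.nel_ek hf hk (by omega) (by omega) _ hi (by omega) (by omega),
      H.nel_dk hf hk (by omega) (by omega) _ hi (by omega) (by omega)]
    exact wS_gt (by omega) (by omega) hi

theorem wS_lt : ∀ {k : ℕ}, k < m → ∀ {i : ℕ}, i < k →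
    mv (wS hf e d k) (e i) = e (i + 1) ∧ mv (wS hf e d k) (d i) = d (i + 1)
  | 0, _, i, hi => absurd hi (Nat.not_lt_zero i)
  | k + 1, hk, i, hi => by
    rw [wS, mv_mul, mv_mul]
    rcases eq_or_ne i k with rfl | hik
    · rw [H.nel_ej hf hk (by omega) (by omega) one_ne_zero, H.nel_dj hf hk (by omega) (by omega) one_ne_zero,
        map_one, inv_one, one_smul, one_smul]
      exact H.wS_gt hf (by omega) (by omega) hk
    · rw [H.nel_ek hf hk (by omega) (by omega) _ (by omega) (by omega) hik,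
        H.nel_dk hf hk (by omega) (by omega) _ (by omega) (by omega) hik]
      exact wS_lt (by omega) (by omega)

theorem wS_last : ∀ {k : ℕ}, k < m →
    mv (wS hf e d k) (e k) = (-1 : F) ^ k • e 0 ∧ mv (wS hf e d k) (d k) = (-1 : F) ^ k • d 0
  | 0, _ => by rw [pow_zero, one_smul, one_smul]; exact ⟨mv_one _, mv_one _⟩
  | k + 1, hk => by
    obtain ⟨h1, h2⟩ := wS_last (k := k) (by omega)
    rw [wS, mv_mul, mv_mul, H.nel_ei hf hk (by omega) (by omega) one_ne_zero,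
      H.nel_di hf hk (by omega) (by omega) one_ne_zero, mv_smul, mv_smul, h1, h2, smul_smul, smul_smul, map_one,
      inv_one, pow_succ', neg_one_mul]
    exact ⟨rfl, rfl⟩

/-- the full cycle through both halves -/
theorem exists_cycle (hm : 0 < m) : ∃ w ∈ sug f, ∃ s s' : F, s ≠ 0 ∧ s' ≠ 0 ∧
    (∀ i, i + 1 < m → mv w (e i) = e (i + 1) ∧ mv w (d i) = d (i + 1)) ∧
    mv w (e (m - 1)) = s • d 0 ∧ mv w (d (m - 1)) = s' • e 0 ∧ ∀ x, InW f m e d x → mv w x = x := by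
  obtain ⟨a, ha0, ha⟩ := exists_anti hf.ne_refl hf.involutive
  have he := H.ee 0 hm 0 hm
  have hd := H.dd 0 hm 0 hm
  have hb : σ (-a⁻¹) = -(-a⁻¹) := by rw [map_neg, map_inv₀, ha, inv_neg]
  obtain ⟨τ, hτ⟩ : ∃ τ, htv hf (e 0) he a * htv hf (d 0) hd (-a⁻¹) * htv hf (e 0) he a = τ := ⟨_, rfl⟩
  have mem : τ ∈ sug f := hτ ▸ mul_mem (mul_mem
    ⟨htv_mem hf _ he ha, htv_mem_specialLinear hf _ he a⟩
    ⟨htv_mem hf _ hd hb, htv_mem_specialLinear hf _ hd _⟩) ⟨htv_mem hf _ he ha, htv_mem_specialLinear hf _ he a⟩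
  have te : mv τ (e 0) = (-a⁻¹) • d 0 := by
    rw [← hτ, mv_mul, mv_mul, htv_fix hf _ he a he, mv_htv hf (d 0), H.ed1 hm, mul_one, mv_add, mv_smul,
      htv_fix hf _ he a he, mv_htv hf (e 0), H.de1 hm, mul_one, smul_add, smul_smul, neg_mul,
      inv_mul_cancel₀ ha0]
    module
  have td : mv τ (d 0) = a • e 0 := by
    rw [← hτ, mv_mul, mv_mul, mv_htv hf (e 0) he a (d 0), H.de1 hm, mul_one, mv_add, mv_smul,
      htv_fix hf _ hd _ hd, mv_htv hf (d 0) hd _ (e 0), H.ed1 hm, mul_one, smul_add, smul_smul, mul_neg,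
      mul_inv_cancel₀ ha0, show d 0 + (a • e 0 + (-1 : F) • d 0) = a • e 0 by module, mv_smul,
      htv_fix hf _ he a he]
  have tfix : ∀ x, f x (e 0) = 0 → f x (d 0) = 0 → mv τ x = x := fun x h1 h2 => by
    rw [← hτ, mv_mul, mv_mul, htv_fix hf _ he a h1, htv_fix hf _ hd _ h2, htv_fix hf _ he a h1]
  obtain ⟨h1, h2⟩ := H.wS_last hf (k := m - 1) (by omega)
  refine ⟨τ * wS hf e d (m - 1), mul_mem mem (H.wS_mem_sug hf (by omega)), (-1) ^ (m - 1) * (-a⁻¹),
    (-1) ^ (m - 1) * a, mul_ne_zero (pow_ne_zero _ (neg_ne_zero.2 one_ne_zero)) (neg_ne_zero.2 (inv_ne_zero ha0)),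
    mul_ne_zero (pow_ne_zero _ (neg_ne_zero.2 one_ne_zero)) ha0, fun i hi => ?_, ?_, ?_, fun x hx => ?_⟩
  · obtain ⟨g1, g2⟩ := H.wS_lt hf (k := m - 1) (by omega) (i := i) (by omega)
    rw [mv_mul, mv_mul, g1, g2]
    exact ⟨tfix _ (H.ee _ hi 0 hm) (H.ed0 hi hm (by omega)), tfix _ (H.de0 hi hm (by omega)) (H.dd _ hi 0 hm)⟩
  · rw [mv_mul, h1, mv_smul, te, smul_smul]
  · rw [mv_mul, h2, mv_smul, td, smul_smul]
  · rw [mv_mul, H.wS_W hf (by omega) hx]
    exact tfix x (hx 0 hm).1 (hx 0 hm).2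

theorem diag_conj {w h : GL ι F} {s s' : F}
    (hlt : ∀ i, i + 1 < m → mv w (e i) = e (i + 1) ∧ mv w (d i) = d (i + 1))
    (he : mv w (e (m - 1)) = s • d 0) (hd : mv w (d (m - 1)) = s' • e 0)
    (hW : ∀ x, InW f m e d x → mv w x = x) (hh : IsDiag f m e d h) : IsDiag f m e d (w⁻¹ * h * w) := by
  obtain ⟨hh, ρ, hρ⟩ := hh
  refine ⟨fun l hl => ?_, ρ, fun x hx => conj_apply_of (by rw [hW x hx, hρ x hx])⟩
  by_cases hlast : l = m - 1
  · subst hlast
    obtain ⟨⟨a, ha⟩, b, hb⟩ := hh 0 (by omega)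
    exact ⟨⟨b, conj_apply_of (by rw [he, mv_smul, hb, smul_comm])⟩,
      a, conj_apply_of (by rw [hd, mv_smul, ha, smul_comm])⟩
  · obtain ⟨h1, h2⟩ := hlt l (by omega)
    obtain ⟨⟨a, ha⟩, b, hb⟩ := hh (l + 1) (by omega)
    exact ⟨⟨a, conj_apply_of (by rw [h1, ha])⟩, b, conj_apply_of (by rw [h2, hb])⟩

theorem L_trans {M : Subgroup (GL ι F)} (hMS : M ≤ sug f) {i j k : ℕ} (hi : i < m) (hj : j < m) (hk : k < m)
    (hij : i ≠ j) (hjk : j ≠ k) (hik : i ≠ k)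
    (h1 : ∀ c : F, eic hf (d j) (c • e i) 0 ∈ M) (h2 : ∀ c : F, eic hf (d k) (c • e j) 0 ∈ M) (c : F) :
    eic hf (d k) (c • e i) 0 ∈ M := by
  have h := conj_eic_mem hf hMS (h1 c) (H.L_ok hf hj hk hjk 1) (h2 1)
  rw [H.L_fix hf hi hj hij c (H.dd k hk j hj) (H.de0 hk hi hik.symm), mv_smul, H.L_e hf hi hj hij, one_smul] at h
  have e' : eic hf (d k) (e j + c • e i) 0 = eic hf (d k) (e j) 0 * eic hf (d k) (c • e i) 0 := by
    rw [eic_mul hf (by simpa using H.L_ok hf hj hk hjk 1) (H.L_ok hf hi hk hik c), hf.smul_left, H.ee i hi j hj,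
      mul_zero, sub_zero, add_zero]
  rw [e'] at h
  exact (Subgroup.mul_mem_cancel_left M (by simpa using h2 1)).1 h

end Sys

end Cfsg.Agent.TwoGenUnit
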