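import Cfsg.Agent.Lib.Classical.TwoGenUnit.Cases
import Cfsg.Agent.Lib.Classical.UnitaryStd

/-!
Two generation of the projective special unitary groups.
-/

set_option autoImplicit false

namespace Cfsg.Agent.TwoGenUnit

open scoped Matrix
open Matrix Cfsg.Agent.Transvec Cfsg.Agent.Transvec.Herm Cfsg.Agent.UnitarySimple

variable {ι : Type} [Fintype ι] [DecidableEq ι] {F : Type*} [Field F]
variable {σ : F ≃+* F} {f : (ι → F) → (ι → F) → F} (hf : Geo.IsUnitaryForm σ f)
include hf

theorem exists_sys [Finite F] : ∀ (m : ℕ) (X : Submodule F (ι → F)), Nondeg hf X →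
    2 * m ≤ Module.finrank F X → ∃ e d : ℕ → ι → F, (∀ i < m, e i ∈ X ∧ d i ∈ X) ∧ Sys f m e d
  | 0, _, _, _ => ⟨fun _ => 0, fun _ => 0, fun i hi => absurd hi (Nat.not_lt_zero i),
      ⟨fun i hi => absurd hi (Nat.not_lt_zero i), fun i hi => absurd hi (Nat.not_lt_zero i),
        fun i hi => absurd hi (Nat.not_lt_zero i), fun i hi => absurd hi (Nat.not_lt_zero i)⟩⟩
  | m + 1, X, hX, hdim => by
    obtain ⟨e₀, he, he0, hee⟩ := exists_isotropic hf hX (by omega)
    obtain ⟨d₀, hd, hed, hdd⟩ := exists_partner hf hX he he0 hee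
    obtain ⟨hP, hP2⟩ := nondeg_pair hf hee hdd hed
    have hde : f d₀ e₀ = 1 := by rw [hf.herm, hed, map_one]
    have hPX : Submodule.span F ({e₀, d₀} : Set (ι → F)) ≤ X :=
      Submodule.span_le.2 (Set.insert_subset_iff.2 ⟨he, Set.singleton_subset_iff.2 hd⟩)
    have hd' := finrank_inf_orth_add hf hP hPX
    obtain ⟨e, d, hmem, H⟩ := exists_sys m _ (nondeg_inf_orth hf hP hX hPX) (by omega)
    have o1 : ∀ i < m, f e₀ (e i) = 0 ∧ f d₀ (e i) = 0 ∧ f e₀ (d i) = 0 ∧ f d₀ (d i) = 0 := fun i hi =>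
      ⟨(hmem i hi).1.2 e₀ (Submodule.subset_span (by simp)), (hmem i hi).1.2 d₀ (Submodule.subset_span (by simp)),
        (hmem i hi).2.2 e₀ (Submodule.subset_span (by simp)), (hmem i hi).2.2 d₀ (Submodule.subset_span (by simp))⟩
    refine ⟨fun i => Nat.rec e₀ (fun k _ => e k) i, fun i => Nat.rec d₀ (fun k _ => d k) i, ?_,
      ⟨?_, ?_, ?_, ?_⟩⟩
    · rintro (_ | i) hi
      · exact ⟨he, hd⟩
      · exact ⟨(hmem i (by omega)).1.1, (hmem i (by omega)).2.1⟩
    · rintro (_ | i) hi (_ | j) hj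
      · exact hee
      · exact (o1 j (by omega)).1
      · exact (f_eq_zero_comm hf).1 (o1 i (by omega)).1
      · exact H.ee i (by omega) j (by omega)
    · rintro (_ | i) hi (_ | j) hj
      · exact hdd
      · exact (o1 j (by omega)).2.2.2
      · exact (f_eq_zero_comm hf).1 (o1 i (by omega)).2.2.2
      · exact H.dd i (by omega) j (by omega)
    · rintro (_ | i) hi (_ | j) hj
      · rw [if_pos rfl]; exact hed
      · rw [if_neg (by omega)]; exact (o1 j (by omega)).2.2.1
      · rw [if_neg (by omega)]; exact (f_eq_zero_comm hf).1 (o1 i (by omega)).2.1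
      · simpa using H.ed i (by omega) j (by omega)
    · rintro (_ | i) hi (_ | j) hj
      · rw [if_pos rfl]; exact hde
      · rw [if_neg (by omega)]; exact (o1 j (by omega)).2.1
      · rw [if_neg (by omega)]; exact (f_eq_zero_comm hf).1 (o1 i (by omega)).2.2.1
      · simpa using H.de i (by omega) j (by omega)

/-- the coordinates along the pairs -/
def coords {m : ℕ} (e d : ℕ → ι → F) : (ι → F) →ₗ[F] (Fin m → F) × (Fin m → F) :=
  (LinearMap.pi fun i : Fin m => formH hf (d i)).prod (LinearMap.pi fun i : Fin m => formH hf (e i))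

theorem finrank_core {m : ℕ} {e d : ℕ → ι → F} (H : Sys f m e d) :
    (∀ x, x ∈ LinearMap.ker (coords hf (m := m) e d) ↔ InW f m e d x) ∧
      2 * m + Module.finrank F (LinearMap.ker (coords hf (m := m) e d)) = Fintype.card ι := by
  have hker : ∀ x, x ∈ LinearMap.ker (coords hf (m := m) e d) ↔ InW f m e d x := by
    intro x
    rw [LinearMap.mem_ker, coords, LinearMap.prod_apply, Function.prod, Prod.mk_eq_zero]
    simp only [funext_iff, LinearMap.pi_apply, formH_apply, Pi.zero_apply]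
    exact ⟨fun h i hi => ⟨h.2 ⟨i, hi⟩, h.1 ⟨i, hi⟩⟩, fun h => ⟨fun i => (h i i.2).2, fun i => (h i i.2).1⟩⟩
  refine ⟨hker, ?_⟩
  have hsurj : LinearMap.range (coords hf (m := m) e d) = ⊤ := by
    rw [LinearMap.range_eq_top]
    rintro ⟨a, b⟩
    refine ⟨∑ k : Fin m, (a k • e k + b k • d k), ?_⟩
    have hh : ∀ u v, formH hf v u = f u v := fun u v => rfl
    refine Prod.ext (funext fun i => ?_) (funext fun i => ?_)
    · show formH hf (d i) _ = a i
      rw [map_sum, Finset.sum_eq_single i]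
      · rw [hh, hf.add_left, hf.smul_left, hf.smul_left, H.ed1 i.2, H.dd i i.2 i i.2]; ring
      · intro k _ hk
        rw [hh, hf.add_left, hf.smul_left, hf.smul_left, H.ed0 k.2 i.2 (fun h => hk (Fin.ext h)),
          H.dd k k.2 i i.2]
        ring
      · exact fun h => absurd (Finset.mem_univ i) h
    · show formH hf (e i) _ = b i
      rw [map_sum, Finset.sum_eq_single i]
      · rw [hh, hf.add_left, hf.smul_left, hf.smul_left, H.de1 i.2, H.ee i i.2 i i.2]; ring
      · intro k _ hk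
        rw [hh, hf.add_left, hf.smul_left, hf.smul_left, H.de0 k.2 i.2 (fun h => hk (Fin.ext h)),
          H.ee k k.2 i i.2]
        ring
      · exact fun h => absurd (Finset.mem_univ i) h
  have h := (coords hf (m := m) e d).finrank_range_add_finrank_ker
  rw [hsurj, finrank_top, Module.finrank_prod, Module.finrank_pi, Module.finrank_pi, Fintype.card_fin] at h
  omega

theorem exists_torus {e d : ℕ → ι → F} (H : Sys f 1 e d) {v : ι → F} (hv : InW f 1 e d v) (hvv : f v v = 1)
    (hspan : ∀ x, InW f 1 e d x → x = f x v • v) {θ : F} (hθ : θ ≠ 0) :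
    ∃ h ∈ sug f, mv h (e 0) = θ • e 0 ∧ mv h (d 0) = (σ θ)⁻¹ • d 0 ∧ mv h v = (σ θ / θ) • v := by
  have hσθ : σ θ ≠ 0 := (map_ne_zero_iff σ σ.injective).2 hθ
  have he := H.ee 0 one_pos 0 one_pos
  have hd := H.dd 0 one_pos 0 one_pos
  have hev := H.eW hf hv one_pos
  have hdv := H.dW hf hv one_pos
  have hve : f v (e 0) = 0 := (hv 0 one_pos).1
  have hvd : f v (d 0) = 0 := (hv 0 one_pos).2
  set A := tvMat (e 0) ((θ - 1) • formH hf (d 0)) * tvMat (d 0) (((σ θ)⁻¹ - 1) • formH hf (e 0)) *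
    tvMat v ((σ θ / θ - 1) • formH hf v) with hA
  have hdet : A.det = 1 := by
    rw [hA, Matrix.det_mul, Matrix.det_mul, det_tvMat, det_tvMat, det_tvMat, LinearMap.smul_apply,
      LinearMap.smul_apply, LinearMap.smul_apply, formH_apply, formH_apply, formH_apply, H.ed1 one_pos,
      H.de1 one_pos, hvv]
    simp only [smul_eq_mul, mul_one, add_sub_cancel]
    field_simp
  have hmv : ∀ z, A *ᵥ z = z + ((θ - 1) * f z (d 0)) • e 0 + (((σ θ)⁻¹ - 1) * f z (e 0)) • d 0 +
      ((σ θ / θ - 1) * f z v) • v := by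
    intro z
    rw [hA, ← Matrix.mulVec_mulVec, ← Matrix.mulVec_mulVec, tvMat_mulVec, tvMat_mulVec, tvMat_mulVec]
    simp only [LinearMap.smul_apply, formH_apply, smul_eq_mul, hf.add_left, hf.smul_left, hd, hve, hvd]
    module
  have dec : ∀ z, z = f z (d 0) • e 0 + f z (e 0) • d 0 + f z v • v := by
    intro z
    have h := hspan _ (H.decomp hf z)
    rw [Finset.sum_range_one, sub_left hf, hf.add_left, hf.smul_left, hf.smul_left, hev, hdv, mul_zero,
      mul_zero, add_zero, sub_zero] at h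
    rw [← h]
    abel
  refine ⟨Matrix.GeneralLinearGroup.mkOfDetNeZero A (hdet ▸ one_ne_zero), ⟨fun x y => ?_, ?_⟩, ?_, ?_, ?_⟩
  · change f (A *ᵥ x) (A *ᵥ y) = f x y
    have img : ∀ z, A *ᵥ z = (θ * f z (d 0)) • e 0 + ((σ θ)⁻¹ * f z (e 0)) • d 0 + (σ θ / θ * f z v) • v := by
      intro z
      rw [hmv]
      nth_rewrite 1 [dec z]
      module
    have hz : ∀ z w, f z w =
        f z (d 0) * σ (f w (e 0)) + f z (e 0) * σ (f w (d 0)) + f z v * σ (f w v) := by
      intro z w
      nth_rewrite 1 [dec z]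
      rw [hf.add_left, hf.add_left, hf.smul_left, hf.smul_left, hf.smul_left, hf.herm w (e 0), hf.herm w (d 0),
        hf.herm w v]
      simp only [hf.involutive]
    rw [img, img, hz x y]
    simp only [hf.add_left, add_right hf, hf.smul_left, smul_right hf, he, hd, H.ed1 one_pos, H.de1 one_pos,
      hev, hdv, hve, hvd, hvv, mul_zero, mul_one, add_zero, zero_add, map_mul, map_inv₀, map_div₀,
      hf.involutive]
    field_simp
  · refine MonoidHom.mem_ker.2 (Units.ext ?_)
    rw [Matrix.GeneralLinearGroup.val_det_apply]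
    exact hdet
  · show A *ᵥ e 0 = _
    rw [hmv, he, hev, H.ed1 one_pos]
    module
  · show A *ᵥ d 0 = _
    rw [hmv, hd, hdv, H.de1 one_pos]
    module
  · show A *ᵥ v = _
    rw [hmv, hve, hvd, hvv]
    module

omit hf in
theorem exists_primitive (F : Type*) [Field F] [Fintype F] :
    ∃ θ : F, θ ≠ 0 ∧ ∀ k : ℕ, θ ^ k = 1 → Fintype.card F - 1 ∣ k := by
  classical
  obtain ⟨θ, hθ⟩ := IsCyclic.exists_generator (α := Fˣ)
  refine ⟨θ, θ.ne_zero, fun k hk => ?_⟩
  rw [← Fintype.card_units, ← Nat.card_eq_fintype_card, ← orderOf_eq_card_of_forall_mem_zpowers hθ,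
    orderOf_dvd_iff_pow_eq_one]
  exact Units.ext (by rw [Units.val_pow_eq_pow_val, hk, Units.val_one])

theorem sug_two [Fintype F] (hn : 3 ≤ Fintype.card ι)
    (h32 : Fintype.card ι = 3 → 3 ≤ Nat.card (fixedField σ)) :
    ∃ g₁ ∈ sug f, ∃ g₂ ∈ sug f, sug f ≤ Subgroup.closure {g₁, g₂} := by
  obtain ⟨q, hqdef⟩ : ∃ q, Nat.card (fixedField σ) = q := ⟨_, rfl⟩
  have hq : 2 ≤ q := by rw [← hqdef]; exact Finite.one_lt_card
  have hF : Nat.card F = q ^ 2 := by rw [← hqdef, card_eq_sq hf.ne_refl hf.involutive]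
  have hσq : ∀ x, σ x = x ^ q := fun x => by rw [← hqdef, ← apply_eq_pow hf.ne_refl hf.involutive]
  obtain ⟨θ, hθ0, hθdvd⟩ := exists_primitive F
  rw [← Nat.card_eq_fintype_card, hF] at hθdvd
  have hθ : ∀ k : ℕ, 0 < k → θ ^ k = 1 → q ^ 2 - 1 ≤ k := fun k hk h => Nat.le_of_dvd hk (hθdvd k h)
  have hσθ : σ θ ≠ 0 := (map_ne_zero_iff σ σ.injective).2 hθ0
  have hdim : Module.finrank F (⊤ : Submodule F (ι → F)) = Fintype.card ι := by
    rw [finrank_top, Module.finrank_pi]
  rcases Nat.even_or_odd' (Fintype.card ι) with ⟨m, hm | hm⟩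
  · obtain ⟨e, d, -, H⟩ := exists_sys hf m ⊤ (nondeg_top hf) (by omega)
    obtain ⟨hker, hk⟩ := finrank_core hf H
    have hbot : LinearMap.ker (coords hf (m := m) e d) = ⊥ := Submodule.finrank_eq_zero.1 (by omega)
    exact H.even_gen hf (by omega) (by omega)
      (fun x hx => (Submodule.mem_bot F).1 (hbot ▸ (hker x).2 hx)) hq hF hθ0 hθ
  · obtain ⟨e, d, -, H⟩ := exists_sys hf m ⊤ (nondeg_top hf) (by omega)
    obtain ⟨hker, hk⟩ := finrank_core hf H
    have h1 : Module.finrank F (LinearMap.ker (coords hf (m := m) e d)) = 1 := by omega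
    obtain ⟨⟨v₀, hv₀⟩, hv₀0, hv₀s⟩ := finrank_eq_one_iff'.1 h1
    have hW₀ := (hker v₀).1 hv₀
    have hne : f v₀ v₀ ≠ 0 := by
      intro h
      have hv : v₀ ≠ 0 := fun h0 => hv₀0 (Subtype.ext h0)
      obtain ⟨y, hy⟩ := (hf.nondegenerate v₀ hv).2
      obtain ⟨c, hc⟩ := hv₀s ⟨_, (hker _).2 (H.decomp hf y)⟩
      have hc' : c • v₀ = y - ∑ i ∈ Finset.range m, (f y (d i) • e i + f y (e i) • d i) := congrArg Subtype.val hc
      have hh : ∀ u w, formH hf w u = f u w := fun u w => rfl
      have hyv : f y v₀ = 0 := by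
        have h5 := congrArg (formH hf v₀) hc'
        rw [map_sub, map_sum, Finset.sum_eq_zero (fun i hi => by
          rw [map_add, map_smul, map_smul, hh, hh, H.eW hf hW₀ (Finset.mem_range.1 hi),
            H.dW hf hW₀ (Finset.mem_range.1 hi), smul_zero, smul_zero, add_zero]), map_smul, hh, hh, h,
          smul_zero, sub_zero] at h5
        exact h5.symm
      exact hy ((f_eq_zero_comm hf).1 hyv)
    obtain ⟨r, hr⟩ := exists_norm hf.ne_refl hf.involutive (f v₀ v₀)⁻¹ (by rw [map_inv₀, self_fixed hf])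
    have hv : InW f m e d (r • v₀) := fun i hi => by
      rw [hf.smul_left, hf.smul_left, (hW₀ i hi).1, (hW₀ i hi).2, mul_zero]
      exact ⟨rfl, rfl⟩
    have hvv : f (r • v₀) (r • v₀) = 1 := by
      rw [hf.smul_left, smul_right hf, ← mul_assoc, hr, inv_mul_cancel₀ hne]
    have hspan : ∀ x, InW f m e d x → x = f x (r • v₀) • (r • v₀) := by
      intro x hx
      obtain ⟨c, hc⟩ := hv₀s ⟨x, (hker x).2 hx⟩
      have hc' : c • v₀ = x := congrArg Subtype.val hc
      rw [← hc', hf.smul_left, smul_right hf, smul_smul]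
      congr 1
      rw [mul_assoc, mul_right_comm (σ r), mul_comm (σ r) r, hr, inv_mul_cancel₀ hne, mul_one]
    have h0m : 0 < m := by omega
    obtain ⟨w, hw, s, s', hs, hs', hlt, hwe, hwd, hwW⟩ := H.exists_cycle hf h0m
    have hθ1 : θ ≠ 1 := fun h => by
      have := hθ 1 one_pos (by rw [pow_one, h])
      have : 2 ^ 2 ≤ q ^ 2 := Nat.pow_le_pow_left hq 2
      omega
    by_cases h1m : m = 1
    · -- dimension three
      subst h1m
      have hq3 : 3 ≤ q := hqdef ▸ h32 (by omega)
      have h9 : 3 ^ 2 ≤ q ^ 2 := Nat.pow_le_pow_left hq3 2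
      obtain ⟨h, hh, he0, hd0, hvh⟩ := exists_torus hf H hv hvv hspan hθ0
      have hdiag : IsDiag f 1 e d h := by
        refine ⟨fun l hl => ?_, σ θ / θ, fun x hx => ?_⟩
        · obtain rfl : l = 0 := by omega
          exact ⟨⟨_, he0⟩, _, hd0⟩
        · rw [hspan x hx, mv_smul, hvh, smul_comm]
      refine H.odd_gen hf h0m hn h32 hq hF hv hvv hspan hw hs hlt hwe hwd hwW hh hdiag hθ0
        (div_ne_zero hσθ hθ0) he0 hvh (conj_apply_of (by rw [hwe, mv_smul, hd0, smul_comm])) ?_ ?_
      · refine ord_bound hθ (j := 3) (by omega) ?_ fun k hk => ?_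
        · zify [show 1 ≤ q by omega, show 1 ≤ q ^ 2 by omega]
          nlinarith
        · have hN1 : θ ^ (q ^ 2 - 1) = 1 := by
            rw [← hF, Nat.card_eq_fintype_card]
            exact FiniteField.pow_card_sub_one_eq_one θ hθ0
          have h2 : θ ^ ((2 * q - 1) * k) = 1 := by
            rw [pow_mul]
            convert hk using 2
            rw [hσq θ, mul_div_assoc', eq_div_iff hθ0, ← pow_add, ← pow_succ]
            congr 1
            omega
          have e : (2 * q + 1) * (2 * q - 1) = 4 * (q ^ 2 - 1) + 3 := by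
            zify [show 1 ≤ 2 * q by omega, show 1 ≤ q ^ 2 by omega]
            ring
          have h3 : θ ^ ((2 * q + 1) * ((2 * q - 1) * k)) = 1 := by rw [mul_comm, pow_mul, h2, one_pow]
          rw [← mul_assoc, e, add_mul, pow_add,
            show 4 * (q ^ 2 - 1) * k = (q ^ 2 - 1) * (4 * k) by ring, pow_mul θ (q ^ 2 - 1), hN1, one_pow,
            one_mul] at h3
          exact h3
      · rw [map_inv₀, hf.involutive]
        intro h'
        have h2 : σ θ = θ * θ := by field_simp at h'; linear_combination h'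
        have h4 := congrArg σ h2
        rw [hf.involutive, map_mul, h2] at h4
        have h5 : θ ^ 3 = 1 := mul_left_cancel₀ hθ0 (by rw [mul_one]; linear_combination -h4)
        have := hθ 3 (by omega) h5
        omega
    · have h1 : 1 < m := by omega
      refine H.odd_gen hf h0m hn h32 hq hF hv hvv hspan hw hs hlt hwe hwd hwW
        (H.hel_mem_sug hf h0m h1 (by omega) θ) (H.hel_diag hf h0m h1 (by omega) hθ0) hθ0 one_ne_zero
        (H.hel_ei hf h0m h1 (by omega) hθ0)
        (show mv (hel hf e d 0 1 θ) (r • v₀) = (1 : F) • (r • v₀) by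
          rw [one_smul, H.hel_W hf h0m h1 (by omega) θ hv])
        (conj_apply_of (by rw [(hlt 0 (by omega)).1, H.hel_ej hf h0m h1 (by omega) hθ0])) ?_ ?_
      · refine ord_bound hθ (j := 1) one_pos ?_ fun k hk => ?_
        · have : q < q ^ 2 := by nlinarith
          omega
        · rw [mul_one, ← map_pow] at hk
          rw [one_mul]
          exact σ.injective (by rw [hk, map_one])
      · rw [mul_one]
        intro h'
        rw [map_inv₀, inv_eq_one] at h'
        exact hθ1 (σ.injective (by rw [h', map_one]))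

omit hf

theorem two_of_le' {G : Type*} [Group G] {S : Subgroup G}
    (h : ∃ a ∈ S, ∃ b ∈ S, S ≤ Subgroup.closure {a, b}) :
    ∃ a b : S, Subgroup.closure ({a, b} : Set S) = ⊤ := by
  obtain ⟨a, ha, b, hb, hle⟩ := h
  refine ⟨⟨a, ha⟩, ⟨b, hb⟩, Subgroup.map_injective S.subtype_injective ?_⟩
  rw [MonoidHom.map_closure, Set.image_pair, ← MonoidHom.range_eq_map, Subgroup.range_subtype]
  exact le_antisymm ((Subgroup.closure_le _).2
    (Set.insert_subset_iff.2 ⟨ha, Set.singleton_subset_iff.2 hb⟩)) hle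

theorem psu_two {F : Type*} [Field F] [Fintype F] {q : ℕ} (hF : Fintype.card F = q ^ 2) (n : ℕ) (hn : 3 ≤ n)
    (h32 : n = 3 → q ≠ 2) :
    ∃ a b : Cfsg.PSU n F q, Subgroup.closure ({a, b} : Set (Cfsg.PSU n F q)) = ⊤ := by
  obtain ⟨σ, hσ, hf, hq⟩ := UnitaryStd.exists_setup hF (by omega : 0 < n)
  have h3 : Fintype.card (Fin n) = 3 → 3 ≤ Nat.card (fixedField σ) := by
    rw [Fintype.card_fin, hq]
    intro h
    have h2 : 2 ≤ q := by
      by_contra hlt
      have := Fintype.one_lt_card (α := F)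
      have : q ^ 2 ≤ 1 ^ 2 := Nat.pow_le_pow_left (by omega) 2
      omega
    have := h32 h
    omega
  obtain ⟨a, b, hab⟩ := two_of_le' (sug_two hf (by simpa using hn) h3)
  refine ⟨QuotientGroup.mk' _ (UnitaryStd.suEquiv.symm a), QuotientGroup.mk' _ (UnitaryStd.suEquiv.symm b), ?_⟩
  rw [← Set.image_pair, ← MonoidHom.map_closure,
    show ({UnitaryStd.suEquiv.symm a, UnitaryStd.suEquiv.symm b} : Set (Cfsg.SU n F q)) =
      (UnitaryStd.suEquiv (F := F) (n := n) (q := q)).symm.toMonoidHom '' {a, b} by rw [Set.image_pair]; rfl,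
    ← MonoidHom.map_closure, hab, Subgroup.map_top_of_surjective _ (MulEquiv.surjective _),
    Subgroup.map_top_of_surjective _ (QuotientGroup.mk'_surjective _)]

end Cfsg.Agent.TwoGenUnit
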